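import Groth.Agent.VBPn.K230.DPMk
import Groth.Agent.Dix.Cast5
import Groth.Agent.VarietyA.Dim1GlobGen
import Groth.Agent.Variety.K432.AmpCurve

/-!
# The anticanonical class of the blow-up of the plane in at most seven points in general position

* `exists_section_off`: a section of the inverse of an effective Cartier ideal.
* `isGloballyGenerated`, `isAmple`: the class `3h - ∑ E_i` is globally generated and ample.
-/

set_option autoImplicit false
universe u

open CategoryTheory CategoryTheory.Limits AlgebraicGeometry Opposite TopologicalSpace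

namespace K230.DPAmple

open Groth.Agent LefPen K230.GenPos K230.PlanePt K230.Resid K230.ConfDeg K230.DPConf K230.DPMk BlowUp
open Scheme.IdealSheafData
open Groth.Agent.Grpsch.PicGrp Groth.Agent.Lefpen.H21.PicTwist K464.Base K464.Curves
open K700.BlVan K700.BlOne K700.BlSetup

theorem prod_castLE {M : Type*} [CommMonoid M] {s : ℕ} (hs : s ≤ 7) (f : Fin 7 → M)
    (h : ∀ i : Fin 7, s ≤ i.1 → f i = 1) : ∏ i, f i = ∏ t : Fin s, f (Fin.castLE hs t) := by
  have h1 := Finset.prod_map (Finset.univ : Finset (Fin s)) (Fin.castLEEmb hs) f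
  refine Eq.trans (Finset.prod_subset (Finset.subset_univ _) fun i _ hi => ?_).symm h1
  refine h i (not_lt.1 fun hlt => hi ?_)
  rw [Finset.mem_map]
  exact ⟨⟨i.1, hlt⟩, Finset.mem_univ _, rfl⟩

theorem eta_eq {k : Type u} [Field k] {X : Scheme.{u}} {s : ℕ} (hs : s ≤ 7) (B : Setup k 1 s X) (K : Conf X)
    (h1 : ∀ t : Fin s, nc K (Fin.castLE hs t) = B.e t) (h2 : ∀ i : Fin 7, s ≤ i.1 → nc K i = 1) :
    eta K B.h = cc B 3 1 := by
  rw [eta, prod_castLE hs _ h2, cc, Setup.cls]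
  congr 1
  refine Finset.prod_congr rfl fun t _ => ?_
  rw [h1, zpow_one]

/-- A section of an inverse of an effective Cartier ideal, generating off the divisor. -/
theorem exists_section_off {X : Scheme.{u}} {F : X.IdealSheafData} (hF : BlowUp.IsEffCartierIdeal F)
    {L : X.Modules} (hL : PicF.IsInvertible L) (h : Grpsch.PicGrp.mk L hL = (ic F hF)⁻¹) {x : X} (hx : x ∉ F.support) :
    ∃ s : Coh.structureModule X ⟶ L, x ∈ CohB1.genLocus L s := by
  have h1 := Dix.Cast5.exists_section F.subschemeι (by rw [F.ker_subschemeι]; exact hF)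
  rw [F.ker_subschemeι] at h1
  obtain ⟨s, hs⟩ := h1
  rw [ic, inv_mk, mk_eq_iff] at h
  obtain ⟨e⟩ := h
  refine ⟨s ≫ e.inv, ?_⟩
  rw [Ega2.Weight.genLocus_comp]
  have h2 : x ∈ (CohB1.genLocus _ s : Set X) := by
    rw [hs, F.range_subschemeι]
    exact hx
  exact h2

section Main

variable {k : Type u} [Field k] [IsAlgClosed k] {s : ℕ} (hs : s ≤ 7) {P : Fin s → ↥(CohB1.ProjSpace (1 + 1) k)}
  (hP : Function.Injective P)
  (hPc : ∀ i, IsClosed ({P i} : Set ↥(CohB1.ProjSpace (1 + 1) k))) (hZ : IsClosed (Set.range P))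
  (h3 : ∀ G : LefPen.Form 2 k 1, G ≠ 0 →
      {i : Fin s | P i ∈ ((LefPen.hypIdeal G).support : Set ↥(CohB1.ProjSpace 2 k))}.ncard ≤ 2)
  (h6 : ∀ G : LefPen.Form 2 k 2, G ≠ 0 →
      {i : Fin s | P i ∈ ((LefPen.hypIdeal G).support : Set ↥(CohB1.ProjSpace 2 k))}.ncard ≤ 5)
  {X : Scheme.{u}} (π : X ⟶ CohB1.ProjSpace (1 + 1) k)
  (hπ : BlowUp.IsBlowUp π (vanishingIdeal ⟨Set.range P, hZ⟩))

include hs hP hPc h3 h6 hπ in
theorem isGG' (B : Setup k 1 s X) (hBπ : B.π = π)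
    (hBI : ∀ t, B.I t = (vanishingIdeal (⟨{P t}, hPc t⟩ : Closeds _)).comap π)
    {Hm : X.Modules} (hH : PicF.IsInvertible Hm) (hmk : Grpsch.PicGrp.mk Hm hH = cc B 3 1) :
    Curv2.IsGloballyGenerated Hm := by
  have key : ∀ x : X, ∃ f : Coh.structureModule X ⟶ Hm, x ∈ CohB1.genLocus Hm f := by
    intro x
    obtain ⟨K, hK, hKe, hK1, hx⟩ := exists_conf hs hP hPc hZ h3 h6 π hπ B hBπ hBI x
    obtain ⟨D, hD, hDic, hxD⟩ := hK.exists_div hx
    refine exists_section_off hD hH ?_ hxD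
    rw [hDic, inv_inv, eta_eq hs B K hKe hK1, hmk]
  choose f hf using key
  exact VarietyA.Dim1GlobGen.isGloballyGenerated (ι := X) f (fun x => ⟨x, hf x⟩)

include hs hP hPc h3 h6 hπ in
theorem isAmple' [X.Over (Spec (CommRingCat.of k))] [IsProper (X ↘ Spec (CommRingCat.of k))]
    (B : Setup k 1 s X) (hBπ : B.π = π)
    (hBI : ∀ t, B.I t = (vanishingIdeal (⟨{P t}, hPc t⟩ : Closeds _)).comap π)
    {Hm : X.Modules} (hH : PicF.IsInvertible Hm) (hmk : Grpsch.PicGrp.mk Hm hH = cc B 3 1)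
    {A : X.Modules} (hA : PicF.IsInvertible A) (hAamp : CohB1.IsAmple A) {c d : ℤ}
    (hcd : Grpsch.PicGrp.mk A hA = cc B c d) :
    CohB1.IsAmple Hm := by
  refine K432.AmpCurve.isAmple_of_gg (X ↘ Spec (CommRingCat.of k)) hH
    (isGG' hs hP hPc hZ h3 h6 π hπ B hBπ hBI hH hmk) fun C hCi hCd hne => ?_
  obtain ⟨e⟩ := hne
  have hC : IsCurve C := ⟨hCi, hCd⟩
  have hdeg : degOn k X C (Grpsch.PicGrp.mk Hm hH) = 0 := by
    letI := overC k X C
    have := isProper_sub k X C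
    have hd : topologicalKrullDim C.subscheme = 1 := (dim_sub X C).trans hC.dim
    rw [degOn_eq_deg, Dix.InterNum.deg_congr k _ hd e, Dix.InterNum.deg_unit]
  obtain ⟨K, hK, hKe, hK1, hx⟩ := exists_conf hs hP hPc hZ h3 h6 π hπ B hBπ hBI (gp hC)
  rw [hmk, ← eta_eq hs B K hKe hK1] at hdeg
  obtain ⟨h1, h2⟩ := hK.deg_zero k hC hx hdeg
  have h3 := degOn_pos_of_ample k hC hA hAamp
  have h4 : ∀ t, degOn k X C (B.e t ^ d) = 0 := fun t => by
    rw [degOn_zpow k hC, ← hKe t, h2, mul_zero]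
  have h5 : degOn k X C (Grpsch.PicGrp.mk A hA) = 0 := by
    rw [hcd, cc, Setup.cls, degOn_mul k hC, degOn_zpow k hC, degOn_prod k hC, h1, mul_zero, zero_add]
    exact Finset.sum_eq_zero fun t _ => h4 t
  rw [h5] at h3
  exact lt_irrefl _ h3

include hP hPc hπ in
theorem exists_ample (B : Setup k 1 s X) (hBπ : B.π = π)
    (hI : PicF.IsInvertible (ClSub.idealMod (exceptional π (vanishingIdeal (⟨Set.range P, hZ⟩ : Closeds _)))))
    (he : Grpsch.PicGrp.mk _ hI = cc B 0 1) :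
    ∃ (A : X.Modules) (hA : PicF.IsInvertible A) (c d : ℤ), CohB1.IsAmple A ∧ Grpsch.PicGrp.mk A hA = cc B c d := by
  subst hBπ
  have hprop := K700.BlQ.isProper hZ B.π hπ
  obtain ⟨a, b, hamp⟩ := CalgB.AmpleBase.exists_isAmple_of_isRelAmple
    (VarietyA.AmpleField.isAmple_twistProjSpace (1 + 1) k) (Pic13.H17.ChowBlow.isRelAmple_exceptional hπ)
  have hN := isInvertible_pullback_twist (r := 1 + 1) (k := k) B.π 1
  have hI1 := Fdesc.LocGen.isInvertible_tensorPow hI a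
  have hN1 := Fdesc.LocGen.isInvertible_tensorPow hN b
  refine ⟨_, Fdesc.LocGen.isInvertible_tensorMod hI1 hN1, b, a, hamp, ?_⟩
  rw [← mk_mul_mk hI1 hN1, mk_tensorPow hI, mk_tensorPow hN, mk_pullback_twist, he]
  have h6 : hyp B.π = cc B 1 0 := B.h_eq
  rw [h6, cc_zpow, ← zpow_natCast, ← zpow_natCast, cc_zpow, cc_zpow, cc_mul]
  congr 1 <;> ring_nf

/-- The anticanonical module is globally generated and ample. -/
theorem gg_and_ample [X.Over (Spec (CommRingCat.of k))]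
    (hπk : π ≫ CohB1.ProjSpace.toSpec (1 + 1) k = X ↘ (Spec (CommRingCat.of k)))
    (hs : s ≤ 7) (hP : Function.Injective P)
    (hPc : ∀ i, IsClosed ({P i} : Set ↥(CohB1.ProjSpace (1 + 1) k)))
    (h3 : ∀ G : LefPen.Form 2 k 1, G ≠ 0 →
      {i : Fin s | P i ∈ ((LefPen.hypIdeal G).support : Set ↥(CohB1.ProjSpace 2 k))}.ncard ≤ 2)
    (h6 : ∀ G : LefPen.Form 2 k 2, G ≠ 0 →
      {i : Fin s | P i ∈ ((LefPen.hypIdeal G).support : Set ↥(CohB1.ProjSpace 2 k))}.ncard ≤ 5)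
    (hπ : BlowUp.IsBlowUp π (vanishingIdeal ⟨Set.range P, hZ⟩)) (Hm : X.Modules)
    (hHm : Nonempty (Hm ≅ CohB1.tensorMod ((Scheme.Modules.pullback π).obj (Twist.twistProjSpace 2 k 3))
      (ClSub.idealMod (BlowUp.exceptional π (vanishingIdeal ⟨Set.range P, hZ⟩))))) :
    Curv2.IsGloballyGenerated Hm ∧ CohB1.IsAmple Hm := by
  obtain ⟨B, hBπ, hBI, -, -, hI, he⟩ := exists_setup_exc hP hPc hZ π hπ
  have hprop : IsProper π := K700.BlQ.isProper hZ π hπ
  have hpX : IsProper (X ↘ Spec (CommRingCat.of k)) := by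
    have : IsProper (CohB1.ProjSpace.toSpec (1 + 1) k) := Groth.Agent.Ega3B.ProjProper.isProper_toSpec (1 + 1) k
    rw [← hπk]
    infer_instance
  obtain ⟨e1⟩ := hHm
  have h1 := isInvertible_pullback_twist (r := 1 + 1) (k := k) π 3
  have hH : PicF.IsInvertible Hm := K700.BlOne.isInvertible_of_iso e1 (Fdesc.LocGen.isInvertible_tensorMod h1 hI)
  have hmk : Grpsch.PicGrp.mk Hm hH = cc B 3 1 := by
    rw [(mk_eq_iff hH (Fdesc.LocGen.isInvertible_tensorMod h1 hI)).2 ⟨e1⟩, ← mk_mul_mk h1 hI, mk_pullback_twist, he]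
    have h6 : hyp π = cc B 1 0 := by rw [← hBπ]; exact B.h_eq
    rw [h6, cc_zpow, cc_mul]
    congr 1
  obtain ⟨A, hA, c, d, hAamp, hcd⟩ := exists_ample hP hPc hZ π hπ B hBπ hI he
  exact ⟨isGG' hs hP hPc hZ h3 h6 π hπ B hBπ hBI hH hmk,
    isAmple' hs hP hPc hZ h3 h6 π hπ B hBπ hBI hH hmk hA hAamp hcd⟩

end Main

end K230.DPAmple
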