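import Groth.Agent.VBPn.K230.Resid
import Groth.Agent.Surf.K464.Curves
import Groth.Agent.Variety.K432.AmpCurve

/-!
# Classes and degrees for a configuration of seven points

`Cl K h`: the lines have class `-h`, the conics class `-2h` (as ideals). For the class `η = 3h + ∑ [N i]`
(`[N i]` the class of the ideal `N i`, i.e. minus the exceptional divisor):
* `Cl.exists_div`: at a point with good pairs there is an effective divisor in `|η|` not containing the point;
* `Cl.deg_zero`: a curve of degree zero has degree zero for `h` and all `[N i]`.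
-/

set_option autoImplicit false
universe u

open CategoryTheory CategoryTheory.Limits AlgebraicGeometry Opposite TopologicalSpace

namespace K230.ConfDeg

open BlowUp K230.Resid K464.Base K464.Curves Groth.Agent Groth.Agent.Grpsch.PicGrp Groth.Agent.Divis.EffCartier

variable {X : Scheme.{u}}

/-- The classes of lines and conics. -/
structure Cl (K : Conf X) (h : Pic X) : Prop where
  D : ∀ i j (hij : i ≠ j), ic (K.D i j) (K.effD i j hij) = h⁻¹
  Q : ∀ i j (hij : i ≠ j), ic (K.Q i j) (K.effQ i j hij) = h⁻¹ * h⁻¹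

variable {K : Conf X} {h : Pic X} (hK : Cl K h)

/-- The class of `N i`. -/
noncomputable def nc (K : Conf X) (i : Fin 7) : Pic X := ic (K.N i) (K.isEff_N i)

/-- The class `3h - ∑ E_i`. -/
noncomputable def eta (K : Conf X) (h : Pic X) : Pic X := h ^ 3 * ∏ i, nc K i

include hK in
theorem ic_L {i j : Fin 7} (hij : i ≠ j) {L : X.IdealSheafData} (hL : K.IsL i j L) :
    nc K i * nc K j * ic L hL.1 = h⁻¹ := by
  rw [← hK.D i j hij, nc, nc, ← ic_mul, ← ic_mul]
  exact ic_congr _ _ hL.2

include hK in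
theorem ic_C {i j : Fin 7} (hij : i ≠ j) {C : X.IdealSheafData} (hC : K.IsC i j C) :
    (∏ l ∈ (Finset.univ.erase i).erase j, nc K l) * ic C hC.1 = h⁻¹ * h⁻¹ := by
  rw [← hK.Q i j hij]
  have h1 := ic_prod ((Finset.univ.erase i).erase j) K.N K.isEff_N
  change (∏ l ∈ (Finset.univ.erase i).erase j, ic (K.N l) (K.isEff_N l)) * _ = _
  rw [← h1, ← ic_mul]
  exact ic_congr _ _ hC.2

theorem prod_nc {i j : Fin 7} (hij : i ≠ j) :
    nc K i * nc K j * (∏ l ∈ (Finset.univ.erase i).erase j, nc K l) = ∏ l, nc K l := by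
  rw [mul_assoc, Finset.mul_prod_erase _ _ (by simp [hij.symm]), Finset.mul_prod_erase _ _ (Finset.mem_univ i)]

theorem cg_aux {G : Type*} [CommGroup G] (a p h : G) : a⁻¹ * h⁻¹ * (p⁻¹ * (h⁻¹ * h⁻¹)) = (h ^ 3 * (a * p))⁻¹ := by
  simp only [mul_inv, pow_succ, pow_zero, one_mul]
  ac_rfl

include hK in
theorem Cl.mul_eq {i j : Fin 7} (hij : i ≠ j) {L C : X.IdealSheafData} (hL : K.IsL i j L) (hC : K.IsC i j C) :
    ic L hL.1 * ic C hC.1 = (eta K h)⁻¹ := by
  have h1 := ic_L hK hij hL
  have h2 := ic_C hK hij hC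
  rw [eta, ← prod_nc (K := K) hij]
  have h3 : ic L hL.1 = (nc K i * nc K j)⁻¹ * h⁻¹ := by rw [← h1, inv_mul_cancel_left]
  have h4 : ic C hC.1 = (∏ l ∈ (Finset.univ.erase i).erase j, nc K l)⁻¹ * (h⁻¹ * h⁻¹) := by
    rw [← h2, inv_mul_cancel_left]
  rw [h3, h4]
  exact cg_aux _ _ _

include hK in
/-- Where the pairs are good there is a divisor in the class `η` avoiding the point. -/
theorem Cl.exists_div {x : X} (hx : ∀ i, x ∉ (K.V i).support) :
    ∃ (D : X.IdealSheafData) (hD : IsEffCartierIdeal D), ic D hD = (eta K h)⁻¹ ∧ x ∉ D.support := by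
  obtain ⟨j, hj, -, ⟨L, C, hL, hC, hxL, hxC⟩, -⟩ := Conf.exists_good hx 0 0
  refine ⟨L * C, isEff_mul hL.1 hC.1, ?_, ?_⟩
  · rw [ic_mul]
    exact hK.mul_eq hj.symm hL hC
  · rw [Scheme.IdealSheafData.support_mul]
    rintro (h | h)
    · exact hxL h
    · exact hxC h

theorem int_aux {a : ℤ} {b : Fin 7 → ℤ} {G : Fin 7 → Fin 7 → Prop}
    (hG : ∀ i i', ∃ j, j ≠ i ∧ j ≠ i' ∧ G i j ∧ G i' j) (h1 : ∀ i j, j ≠ i → G i j → a = b i + b j)
    (h2 : ∀ i j, j ≠ i → G i j → 2 * a = ∑ l ∈ (Finset.univ.erase i).erase j, b l) : a = 0 ∧ ∀ i, b i = 0 := by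
  have h3 : ∀ i i', b i = b i' := by
    intro i i'
    obtain ⟨j, hj, hj', hg, hg'⟩ := hG i i'
    have e1 := h1 i j hj hg
    have e2 := h1 i' j hj' hg'
    omega
  obtain ⟨j, hj, -, hg, -⟩ := hG 0 0
  have e1 := h1 0 j hj hg
  have e2 := h2 0 j hj hg
  rw [Finset.sum_congr rfl (fun l _ => h3 l 0), Finset.sum_const, Finset.card_erase_of_mem (by simp [hj]),
    Finset.card_erase_of_mem (Finset.mem_univ _), Finset.card_univ, Fintype.card_fin] at e2
  rw [h3 j 0] at e1
  simp only [nsmul_eq_mul] at e2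
  push_cast at e2
  have e3 : b 0 = 0 := by omega
  exact ⟨by omega, fun i => by rw [h3 i 0, e3]⟩

variable (k : Type u) [Field k] [X.Over (Spec (CommRingCat.of k))] [IsProper (X ↘ Spec (CommRingCat.of k))]

include hK in
/-- A curve of degree zero with respect to `η` has degree zero with respect to `h` and the `[N i]`. -/
theorem Cl.deg_zero {C : X.IdealSheafData} (hC : IsCurve C) (hx : ∀ i, gp hC ∉ (K.V i).support)
    (h0 : degOn k X C (eta K h) = 0) : degOn k X C h = 0 ∧ ∀ i, degOn k X C (nc K i) = 0 := by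
  have h0' : 3 * degOn k X C h + ∑ i, degOn k X C (nc K i) = 0 := by
    rw [← h0, eta, degOn_mul k hC, degOn_pow k hC, degOn_prod k hC]
    push_cast
    ring
  have key : ∀ i j, j ≠ i → K.Good (gp hC) i j → degOn k X C h = - degOn k X C (nc K i) + - degOn k X C (nc K j) ∧
      2 * degOn k X C h = ∑ l ∈ (Finset.univ.erase i).erase j, - degOn k X C (nc K l) := by
    rintro i j hj ⟨L, C', hL, hC', hxL, hxC⟩
    have e1 := congrArg (degOn k X C) (ic_L hK hj.symm hL)
    have e2 := congrArg (degOn k X C) (ic_C hK hj.symm hC')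
    rw [degOn_mul k hC, degOn_mul k hC, degOn_inv k hC] at e1
    rw [degOn_mul k hC, degOn_prod k hC, degOn_mul k hC, degOn_inv k hC] at e2
    have i1 := degOn_ic_nonpos k hC hL.1 hxL
    have i2 := degOn_ic_nonpos k hC hC'.1 hxC
    have e3 : degOn k X C (nc K i) + (degOn k X C (nc K j) + ∑ l ∈ (Finset.univ.erase i).erase j, degOn k X C (nc K l)) =
        ∑ l, degOn k X C (nc K l) := by
      rw [Finset.add_sum_erase (Finset.univ.erase i) (fun l => degOn k X C (nc K l))
        (Finset.mem_erase.2 ⟨hj, Finset.mem_univ j⟩),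
      Finset.add_sum_erase Finset.univ (fun l => degOn k X C (nc K l)) (Finset.mem_univ i)]
    rw [Finset.sum_neg_distrib]
    constructor <;> linarith
  obtain ⟨h1, h2⟩ := int_aux (G := K.Good (gp hC)) (fun i i' => Conf.exists_good hx i i')
    (fun i j hj hg => (key i j hj hg).1) (fun i j hj hg => (key i j hj hg).2)
  exact ⟨h1, fun i => neg_eq_zero.1 (h2 i)⟩

end K230.ConfDeg
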