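import Groth.Agent.VBPn.K230.PlanePt
import Groth.Agent.VBPn.K230.ConfDeg
import Groth.Agent.VBPn.K700.BlOne
import Groth.Agent.Curves.K318.HypDiv
import Groth.Agent.Surf.K464.DegCurve
import Groth.Agent.Pic13.H17.ChowBlow
import Groth.Agent.CalgB.AmpleBase

/-!
# The anticanonical class of the blow-up of the plane in at most seven points in general position

* `gp_of_ncard`: coordinates of the points are in general position.
* `exists_conf`: the configuration of lines and conics, seen from a point `x` of the blow-up.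
* `isGloballyGenerated`, `isAmple`: the class `3h - ∑ E_i` is globally generated and ample.
-/

set_option autoImplicit false
universe u

open CategoryTheory CategoryTheory.Limits AlgebraicGeometry Opposite TopologicalSpace

namespace K230.DPConf

open Groth.Agent LefPen K230.GenPos K230.PlanePt K230.Resid K230.ConfDeg BlowUp Scheme.IdealSheafData
open Groth.Agent.Grpsch.PicGrp Groth.Agent.Lefpen.H21.PicTwist K464.Base K464.Curves
open K700.BlVan K700.BlOne K700.BlSetup

variable {k : Type u} [Field k]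

section GPos

variable {s : ℕ} {P : Fin s → ↥(CohB1.ProjSpace 2 k)} (hP : Function.Injective P)
  (h3 : ∀ G : LefPen.Form 2 k 1, G ≠ 0 →
      {i : Fin s | P i ∈ ((LefPen.hypIdeal G).support : Set ↥(CohB1.ProjSpace 2 k))}.ncard ≤ 2)
  (h6 : ∀ G : LefPen.Form 2 k 2, G ≠ 0 →
      {i : Fin s | P i ∈ ((LefPen.hypIdeal G).support : Set ↥(CohB1.ProjSpace 2 k))}.ncard ≤ 5)

include hP h3 h6 in
theorem gp_of_ncard {v : Fin s → Fin 3 → k} (hv : ∀ i, PtOf (P i) (v i)) : GP v := by
  have hpair : ∀ i j, i ≠ j → cr (v i) (v j) ≠ 0 := fun i j hij h => hij (hP ((hv i).eq_of_cr (hv j) h))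
  refine ⟨fun i => (hv i).ne, hpair, ?_, ?_⟩
  · intro i j l hij hil hjl h0
    have h1 := h3 (ell (v i) (v j)) (lin_ne_zero (hpair i j hij))
    have h2 : ({i, j, l} : Set (Fin s)) ⊆
        {t : Fin s | P t ∈ ((hypIdeal (ell (v i) (v j))).support : Set ↥(CohB1.ProjSpace 2 k))} := by
      rintro t (rfl | rfl | rfl)
      · exact ((hv _).mem_support _).2 (by rw [evl_ell, D3_self₁])
      · exact ((hv _).mem_support _).2 (by rw [evl_ell, D3_self₂])
      · exact ((hv _).mem_support _).2 (by rw [evl_ell, h0])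
    have h4 := Set.ncard_le_ncard h2 (Set.toFinite _)
    have h5 : ({i, j, l} : Set (Fin s)).ncard = 3 := Set.ncard_eq_three.2 ⟨i, j, l, hij, hil, hjl, rfl⟩
    omega
  · intro b hb Q hQ
    by_contra hne
    have h1 := h6 Q hne
    have h2 : Set.range b ⊆ {t : Fin s | P t ∈ ((hypIdeal Q).support : Set ↥(CohB1.ProjSpace 2 k))} := by
      rintro _ ⟨t, rfl⟩
      exact ((hv _).mem_support _).2 (hQ t)
    have h4 := Set.ncard_le_ncard h2 (Set.toFinite _)
    have h5 : (Set.range b).ncard = 6 := by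
      rw [← Set.image_univ, Set.ncard_image_of_injective _ hb, Set.ncard_univ, Nat.card_eq_fintype_card,
        Fintype.card_fin]
    omega

end GPos

theorem sup_mul_sup_le {Y : Scheme.{u}} (A B C : Y.IdealSheafData) : (A ⊔ B) * (A ⊔ C) ≤ A ⊔ B * C := by
  rw [Scheme.IdealSheafData.mul_inf, Scheme.IdealSheafData.inf_mul, Scheme.IdealSheafData.inf_mul]
  refine sup_le (sup_le ?_ ?_) (sup_le ?_ le_sup_right)
  · exact (K971.Basic.mul_le_left _ _).trans le_sup_left
  · exact (K971.Basic.mul_le_right _ _).trans le_sup_left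
  · exact (K971.Basic.mul_le_left _ _).trans le_sup_left

theorem sup_mul_sup_le' {Y : Scheme.{u}} (A B C : Y.IdealSheafData) : (A ⊔ C) * (B ⊔ C) ≤ A * B ⊔ C := by
  rw [sup_comm A C, sup_comm B C, sup_comm (A * B) C]
  exact sup_mul_sup_le C A B

/-- The formal computation behind the ideal of four points as an intersection of two conics. -/
theorem four_le {Y : Scheme.{u}} {A B C D a b c d : Y.IdealSheafData} (ha : a ≤ A ⊔ B) (hb : b ≤ A ⊔ C)
    (hc : c ≤ D ⊔ B) (hd : d ≤ D ⊔ C) : a * b * (c * d) ≤ A * D ⊔ B * C :=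
  (K971.Basic.mul_mono ((K971.Basic.mul_mono ha hb).trans (sup_mul_sup_le _ _ _))
    ((K971.Basic.mul_mono hc hd).trans (sup_mul_sup_le _ _ _))).trans (sup_mul_sup_le' _ _ _)

theorem ell_swap (u v : Fin 3 → k) : ell v u = (-1 : k) • ell u v + (0 : k) • ell u v := by
  have h : cr v u = (-1 : k) • cr u v := by rw [cr_anti, neg_one_smul]
  rw [ell, ell, h, zero_smul, add_zero]
  apply Subtype.ext
  simp [lin, Finset.smul_sum]

theorem hypIdeal_ell_swap_le (u v : Fin 3 → k) : hypIdeal (ell v u) ≤ hypIdeal (ell u v) := by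
  rw [ell_swap u v]
  exact (hypIdeal_comb_le _ _ _ _).trans (sup_le le_rfl le_rfl)

section Seven

variable {v : Fin 7 → Fin 3 → k} (hv : GP v) {p : Fin 7 → CohB1.ProjSpace 2 k} (hp : ∀ i, PtOf (p i) (v i))

/-- The ideal of the point `p i`. -/
noncomputable abbrev pI (i : Fin 7) : (CohB1.ProjSpace 2 k).IdealSheafData :=
  vanishingIdeal ⟨{p i}, (hp i).isClosed⟩

include hv in
/-- The product of the ideals of four of the points is contained in the ideal of two conics through them. -/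
theorem prod_le_conics {i j l : Fin 7} (hij : i ≠ j) (hil : i ≠ l) (hjl : j ≠ l) {Q Q' : Form 2 k 2}
    (hQ : Q ≠ 0) (hQ0 : ∀ m, m ≠ i → m ≠ j → evl Q (v m) = 0)
    (hQ' : Q' ≠ 0) (hQ'0 : ∀ m, m ≠ i → m ≠ l → evl Q' (v m) = 0) :
    ∏ m ∈ ((Finset.univ.erase i).erase j).erase l, pI hp m ≤ hypIdeal Q ⊔ hypIdeal Q' := by
  have hcard : (((Finset.univ.erase i).erase j).erase l : Finset (Fin 7)).card = 4 := by
    rw [Finset.card_erase_of_mem (by simp [hil.symm, hjl.symm]), Finset.card_erase_of_mem (by simp [hij.symm]),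
      Finset.card_erase_of_mem (Finset.mem_univ _), Finset.card_univ, Fintype.card_fin]
  obtain ⟨a, T, haT, hT, hT3⟩ := Finset.card_eq_succ.1 hcard
  obtain ⟨b, c, d, hbc, hbd, hcd, rfl⟩ := Finset.card_eq_three.1 hT3
  have hab : a ≠ b := fun h => haT (by simp [h])
  have hac : a ≠ c := fun h => haT (by simp [h])
  have had : a ≠ d := fun h => haT (by simp [h])
  have hmem : ∀ m, m ≠ i → m ≠ j → m ≠ l → m = a ∨ m = b ∨ m = c ∨ m = d := by
    intro m h1 h2 h3
    have h4 : m ∈ (((Finset.univ.erase i).erase j).erase l : Finset (Fin 7)) := by simp [h1, h2, h3]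
    rw [← hT] at h4
    simpa using h4
  have e : ∏ m ∈ ((Finset.univ.erase i).erase j).erase l, pI hp m = pI hp a * pI hp b * (pI hp c * pI hp d) := by
    rw [← hT, Finset.prod_insert haT, Finset.prod_insert (by simp [hbc, hbd]), Finset.prod_insert (by simp [hcd]),
      Finset.prod_singleton, mul_assoc]
  have hspan : ∀ S : Form 2 k 2, (∀ m, m = a ∨ m = b ∨ m = c ∨ m = d → evl S (v m) = 0) →
      hypIdeal S ≤ hypIdeal Q ⊔ hypIdeal Q' := by
    intro S hS
    obtain ⟨x, y, rfl⟩ := mem_span_conics hv hij hil hjl hQ hQ0 hQ' hQ'0 S fun m h1 h2 h3 => hS m (hmem m h1 h2 h3)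
    exact hypIdeal_comb_le _ _ _ _
  rw [e]
  refine (four_le (A := hypIdeal (ell (v a) (v b))) (B := hypIdeal (ell (v a) (v c)))
    (C := hypIdeal (ell (v b) (v d))) (D := hypIdeal (ell (v c) (v d))) ?_ ?_ ?_ ?_).trans (sup_le ?_ ?_)
  · exact (hp a).vanishing_le (hv.tri a b c hab hac hbc)
  · exact ((hp b).vanishing_le (hv.tri b a d hab.symm hbd had)).trans
      (sup_le_sup (hypIdeal_ell_swap_le _ _) le_rfl)
  · exact ((hp c).vanishing_le (hv.tri c d a hcd hac.symm had.symm)).trans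
      (sup_le_sup le_rfl (hypIdeal_ell_swap_le _ _))
  · exact ((hp d).vanishing_le (hv.tri d c b hcd.symm hbd.symm hbc.symm)).trans
      (sup_le_sup (hypIdeal_ell_swap_le _ _) (hypIdeal_ell_swap_le _ _))
  · rw [← hypIdeal_mul]
    refine hspan (mul (ell (v a) (v b)) (ell (v c) (v d))) ?_
    rintro m (rfl | rfl | rfl | rfl) <;> rw [evl_mul, evl_ell, evl_ell]
    · rw [D3_self₁, zero_mul]
    · rw [D3_self₂, zero_mul]
    · rw [D3_self₁ (v m), mul_zero]
    · rw [D3_self₂ (v c), mul_zero]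
  · rw [← hypIdeal_mul]
    refine hspan (mul (ell (v a) (v c)) (ell (v b) (v d))) ?_
    rintro m (rfl | rfl | rfl | rfl) <;> rw [evl_mul, evl_ell, evl_ell]
    · rw [D3_self₁, zero_mul]
    · rw [D3_self₁ (v m), mul_zero]
    · rw [D3_self₂, zero_mul]
    · rw [D3_self₂ (v b), mul_zero]

end Seven

section Main

variable {s : ℕ} (hs : s ≤ 7) {P : Fin s → ↥(CohB1.ProjSpace (1 + 1) k)} (hP : Function.Injective P)
  (hPc : ∀ i, IsClosed ({P i} : Set ↥(CohB1.ProjSpace (1 + 1) k))) (hZ : IsClosed (Set.range P))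
  (h3 : ∀ G : LefPen.Form 2 k 1, G ≠ 0 →
      {i : Fin s | P i ∈ ((LefPen.hypIdeal G).support : Set ↥(CohB1.ProjSpace 2 k))}.ncard ≤ 2)
  (h6 : ∀ G : LefPen.Form 2 k 2, G ≠ 0 →
      {i : Fin s | P i ∈ ((LefPen.hypIdeal G).support : Set ↥(CohB1.ProjSpace 2 k))}.ncard ≤ 5)
  {X : Scheme.{u}} (π : X ⟶ CohB1.ProjSpace (1 + 1) k)
  (hπ : BlowUp.IsBlowUp π (vanishingIdeal ⟨Set.range P, hZ⟩))

/-- The class of the ideal of a plane curve, pulled back. -/
theorem ic_comap {d : ℕ} (G : Form 2 k d) (hG : G ≠ 0) (hE : IsEffCartierIdeal ((hypIdeal G).comap π)) :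
    ic ((hypIdeal G).comap π) hE = (hyp π ^ (d : ℤ))⁻¹ := by
  have h1 := K318.HypDiv.isEff_hypIdeal G hG
  rw [← K464.DegCurve.pull_ic π h1 hE]
  have h2 := mk_eq_ic_inv (K318.HypDiv.isInverseOf G hG)
    (Groth.Agent.Ega3B.ProjTwist.isInvertible_twistProjSpace 2 k (d : ℤ)) h1
  rw [← mk_pullback_twist, ← pull_mk π (Groth.Agent.Ega3B.ProjTwist.isInvertible_twistProjSpace 2 k (d : ℤ))]
  rw [h2, map_inv, inv_inv]

end Main

end K230.DPConf
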