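import Groth.Agent.VBPn.K230.DPConf

/-!
# The configuration of lines and conics of the blow-up of the plane, seen from a point
-/

set_option autoImplicit false
universe u

open CategoryTheory CategoryTheory.Limits AlgebraicGeometry Opposite TopologicalSpace

namespace K230.DPMk

open Groth.Agent LefPen K230.GenPos K230.PlanePt K230.Resid K230.ConfDeg K230.DPConf BlowUp Scheme.IdealSheafData
open Groth.Agent.Grpsch.PicGrp Groth.Agent.Lefpen.H21.PicTwist K464.Base K464.Curves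
open K700.BlVan K700.BlOne K700.BlSetup

variable {k : Type u} [Field k]

section Mk

variable {v : Fin 7 → Fin 3 → k} (hv : GP v) {p : Fin 7 → CohB1.ProjSpace 2 k} (hp : ∀ i, PtOf (p i) (v i))
  (q : Fin 7 → Fin 7 → Form 2 k 2) (hq : ∀ i j, i ≠ j → q i j ≠ 0)
  (hq0 : ∀ i j, i ≠ j → ∀ m, m ≠ i → m ≠ j → evl (q i j) (v m) = 0)
  {X : Scheme.{u}} (π : X ⟶ CohB1.ProjSpace 2 k)
  (hπ : ∀ J : (CohB1.ProjSpace 2 k).IdealSheafData, IsEffCartierIdeal J → IsEffCartierIdeal (J.comap π))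
  (R : Fin 7 → Prop) (hR : ∀ i, R i → IsEffCartierIdeal ((pI hp i).comap π))

include hv hp in
theorem ne_of_gp (i j : Fin 7) (hij : i ≠ j) : p i ≠ p j := (hp i).ne_of_cr (hp j) (hv.pair i j hij)

include hv in
theorem cop_aux (i j : Fin 7) (hij : i ≠ j) : (pI hp i).comap π ⊔ (pI hp j).comap π = ⊤ := by
  rw [← comap_sup, vanishing_sup_eq_top _ _ (ne_of_gp hv hp i j hij), comap_top]

theorem leD_aux (i j : Fin 7) : (hypIdeal (ell (v i) (v j))).comap π ≤ (pI hp i).comap π :=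
  comap_mono _ ((hp i).le_vanishing (by rw [evl_ell, D3_self₁]))

theorem leD'_aux (i j : Fin 7) : (hypIdeal (ell (v i) (v j))).comap π ≤ (pI hp j).comap π :=
  comap_mono _ ((hp j).le_vanishing (by rw [evl_ell, D3_self₂]))

include hv in
theorem supD_aux (i j l : Fin 7) (hij : i ≠ j) (hil : i ≠ l) (hjl : j ≠ l) :
    (pI hp i).comap π ≤ (hypIdeal (ell (v i) (v j))).comap π ⊔ (hypIdeal (ell (v i) (v l))).comap π := by
  rw [← comap_sup]
  exact comap_mono _ ((hp i).vanishing_le (hv.tri i j l hij hil hjl))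

include hv hq hq0 in
theorem supQ_aux (i j l : Fin 7) (hij : i ≠ j) (hil : i ≠ l) (hjl : j ≠ l) :
    ∏ m ∈ ((Finset.univ.erase i).erase j).erase l, (pI hp m).comap π ≤
      (hypIdeal (q i j)).comap π ⊔ (hypIdeal (q i l)).comap π := by
  rw [← comap_sup, ← Flat2C.Admissible.comap_prod]
  exact comap_mono _ (prod_le_conics hv hp hij hil hjl (hq i j hij) (hq0 i j hij) (hq i l hil) (hq0 i l hil))

/-- The configuration. -/
noncomputable def conf : Conf X where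
  M i := (pI hp i).comap π
  R := R
  D i j := (hypIdeal (ell (v i) (v j))).comap π
  Q i j := (hypIdeal (q i j)).comap π
  eff := hR
  cop := cop_aux hv hp π
  effD i j hij := hπ _ (K318.HypDiv.isEff_hypIdeal _ (lin_ne_zero (hv.pair i j hij)))
  effQ i j hij := hπ _ (K318.HypDiv.isEff_hypIdeal _ (hq i j hij))
  leD i j _ := leD_aux hp π i j
  leD' i j _ := leD'_aux hp π i j
  leQ i j l hij hli hlj := comap_mono _ ((hp l).le_vanishing (hq0 i j hij l hli hlj))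
  supD := supD_aux hv hp π
  supQ := supQ_aux hv hp q hq hq0 π

end Mk

section Cl

variable {v : Fin 7 → Fin 3 → k} (hv : GP v) {p : Fin 7 → CohB1.ProjSpace 2 k} (hp : ∀ i, PtOf (p i) (v i))
  (q : Fin 7 → Fin 7 → Form 2 k 2) (hq : ∀ i j, i ≠ j → q i j ≠ 0)
  (hq0 : ∀ i j, i ≠ j → ∀ m, m ≠ i → m ≠ j → evl (q i j) (v m) = 0)
  {X : Scheme.{u}} (π : X ⟶ CohB1.ProjSpace 2 k)
  (hπ : ∀ J : (CohB1.ProjSpace 2 k).IdealSheafData, IsEffCartierIdeal J → IsEffCartierIdeal (J.comap π))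
  (R : Fin 7 → Prop) (hR : ∀ i, R i → IsEffCartierIdeal ((pI hp i).comap π))

theorem conf_cl : Cl (conf hv hp q hq hq0 π hπ R hR) (hyp π) := by
  refine ⟨fun i j hij => ?_, fun i j hij => ?_⟩
  · refine (ic_comap π _ (lin_ne_zero (hv.pair i j hij)) _).trans ?_
    rw [Nat.cast_one, zpow_one]
  · refine (ic_comap π _ (hq i j hij) _).trans ?_
    rw [← mul_inv, ← pow_two]
    rfl

theorem conf_N {i : Fin 7} (hi : R i) : (conf hv hp q hq hq0 π hπ R hR).N i = (pI hp i).comap π := by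
  rw [Conf.N]
  exact if_pos hi

theorem conf_N' {i : Fin 7} (hi : ¬ R i) : (conf hv hp q hq hq0 π hπ R hR).N i = ⊤ := by
  rw [Conf.N]
  exact if_neg hi

theorem conf_V {i : Fin 7} (hi : R i) : (conf hv hp q hq hq0 π hπ R hR).V i = ⊤ := by
  rw [Conf.V]
  exact if_pos hi

theorem conf_V' {i : Fin 7} (hi : ¬ R i) : (conf hv hp q hq hq0 π hπ R hR).V i = (pI hp i).comap π := by
  rw [Conf.V]
  exact if_neg hi

theorem conf_nc' {i : Fin 7} (hi : ¬ R i) : nc (conf hv hp q hq hq0 π hπ R hR) i = 1 :=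
  (ic_congr ((conf hv hp q hq hq0 π hπ R hR).isEff_N i) Divis.EffCartier.isEff_top
    (conf_N' hv hp q hq hq0 π hπ R hR hi)).trans ic_top

theorem conf_nc {i : Fin 7} (hi : R i) {I : X.IdealSheafData} (hI : (pI hp i).comap π = I)
    (hE : IsEffCartierIdeal I) : nc (conf hv hp q hq hq0 π hπ R hR) i = ic I hE :=
  ic_congr ((conf hv hp q hq hq0 π hπ R hR).isEff_N i) hE ((conf_N hv hp q hq hq0 π hπ R hR hi).trans hI)

theorem mem_conf_V {i : Fin 7} {x : X} (hx : x ∈ ((conf hv hp q hq hq0 π hπ R hR).V i).support) :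
    ¬ R i ∧ π x = p i := by
  by_cases hi : R i
  · rw [conf_V hv hp q hq hq0 π hπ R hR hi, support_top] at hx
    exact hx.elim
  · rw [conf_V' hv hp q hq hq0 π hπ R hR hi, support_comap] at hx
    exact ⟨hi, mem_support_vanishing.1 (show π x ∈ (pI hp i).support from hx)⟩

end Cl

section Main

variable [IsAlgClosed k] {s : ℕ} (hs : s ≤ 7) {P : Fin s → ↥(CohB1.ProjSpace (1 + 1) k)} (hP : Function.Injective P)
  (hPc : ∀ i, IsClosed ({P i} : Set ↥(CohB1.ProjSpace (1 + 1) k))) (hZ : IsClosed (Set.range P))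
  (h3 : ∀ G : LefPen.Form 2 k 1, G ≠ 0 →
      {i : Fin s | P i ∈ ((LefPen.hypIdeal G).support : Set ↥(CohB1.ProjSpace 2 k))}.ncard ≤ 2)
  (h6 : ∀ G : LefPen.Form 2 k 2, G ≠ 0 →
      {i : Fin s | P i ∈ ((LefPen.hypIdeal G).support : Set ↥(CohB1.ProjSpace 2 k))}.ncard ≤ 5)
  {X : Scheme.{u}} (π : X ⟶ CohB1.ProjSpace (1 + 1) k)
  (hπ : BlowUp.IsBlowUp π (vanishingIdeal ⟨Set.range P, hZ⟩))

/-- Coordinates seen from a point. -/
theorem exists_seen (x : CohB1.ProjSpace 2 k) : ∃ u : Fin 3 → k, u ≠ 0 ∧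
    (IsClosed ({x} : Set ↥(CohB1.ProjSpace 2 k)) → PtOf x u) := by
  by_cases hc : IsClosed ({x} : Set ↥(CohB1.ProjSpace 2 k))
  · obtain ⟨u, hu⟩ := exists_coord x hc
    exact ⟨u, hu.ne, fun _ => hu⟩
  · exact ⟨Pi.single 0 1, fun h => one_ne_zero (α := k) (by simpa using congrFun h 0), fun h => (hc h).elim⟩

include hP hPc h3 h6 in
/-- The seven points. -/
theorem exists_seven (x : CohB1.ProjSpace 2 k) : ∃ (v : Fin 7 → Fin 3 → k) (p : Fin 7 → CohB1.ProjSpace 2 k),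
    GP v ∧ (∀ i, PtOf (p i) (v i)) ∧ (∀ t : Fin s, p (Fin.castLE hs t) = P t) ∧ ∀ i : Fin 7, s ≤ i.1 → x ≠ p i := by
  choose v hv using fun t => exists_coord (P t) (hPc t)
  have hgp := gp_of_ncard hP h3 h6 hv
  obtain ⟨u, hu, hux⟩ := exists_seen x
  obtain ⟨v', hv', hvv, hvu⟩ := hgp.extend hs u hu
  choose p hp using fun i => exists_ptOf (hv'.ne i)
  refine ⟨v', p, hv', hp, fun t => ?_, fun i hi => ?_⟩
  · refine (hp _).eq_of_cr (hv t) ?_
    rw [hvv]
    funext i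
    fin_cases i <;> simp [cr] <;> ring
  · by_cases hc : IsClosed ({x} : Set ↥(CohB1.ProjSpace 2 k))
    · exact (hux hc).ne_of_cr (hp i) (hvu i hi)
    · rintro rfl
      exact hc (hp i).isClosed

omit [IsAlgClosed k] in
theorem comap_pt {x y : CohB1.ProjSpace 2 k} (hx : IsClosed ({x} : Set ↥(CohB1.ProjSpace 2 k)))
    (hy : IsClosed ({y} : Set ↥(CohB1.ProjSpace 2 k))) (h : x = y) :
    (vanishingIdeal ⟨{x}, hx⟩).comap π = (vanishingIdeal ⟨{y}, hy⟩).comap π := by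
  subst h
  rfl

include hs hP hPc h3 h6 hπ in
theorem exists_conf (B : Setup k 1 s X) (hBπ : B.π = π)
    (hBI : ∀ t, B.I t = (vanishingIdeal (⟨{P t}, hPc t⟩ : Closeds _)).comap π) (x : X) :
    ∃ K : Conf X, Cl K B.h ∧ (∀ t : Fin s, nc K (Fin.castLE hs t) = B.e t) ∧
      (∀ i : Fin 7, s ≤ i.1 → nc K i = 1) ∧ ∀ i, x ∉ (K.V i).support := by
  obtain ⟨v, p, hv, hp, hpP, hpx⟩ := exists_seven hs hP hPc h3 h6 (π x)
  choose! q hq hq0 using fun i j => exists_conic (k := k) hv i j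
  have hMI : ∀ t, (pI hp (Fin.castLE hs t)).comap π = B.I t := fun t =>
    (comap_pt π _ (hPc t) (hpP t)).trans (hBI t).symm
  have hE : ∀ t, IsEffCartierIdeal (B.I t) := fun t => by rw [hBI]; exact isEff hP hPc hZ π hπ t
  have hR : ∀ i : Fin 7, i.1 < s → IsEffCartierIdeal ((pI hp i).comap π) := fun i hi => by
    have h1 := hMI ⟨i.1, hi⟩
    have h2 := hE ⟨i.1, hi⟩
    rw [← h1] at h2
    exact h2
  refine ⟨conf hv hp q hq hq0 π (fun J hJ => Divis.BlowUpFormal.isEff_comap_of_isBlowUp hπ hJ) (fun i => i.1 < s) hR,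
    ?_, fun t => ?_, fun i hi => conf_nc' hv hp q hq hq0 π _ _ hR (not_lt.2 hi), fun i hx => ?_⟩
  · rw [Setup.h, hBπ]
    exact conf_cl hv hp q hq hq0 π _ _ hR
  · exact conf_nc hv hp q hq hq0 π _ _ hR (i := Fin.castLE hs t) t.2 (hMI t) (hE t)
  · obtain ⟨h1, h2⟩ := mem_conf_V hv hp q hq hq0 π _ _ hR hx
    exact hpx i (not_lt.1 h1) h2

end Main

end K230.DPMk
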