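import Groth.Prelude.Def_LefPen
import Mathlib.RingTheory.MvPolynomial.Homogeneous
import Mathlib.Algebra.MvPolynomial.Funext
import Mathlib.Data.Fin.Tuple.Basic
import Mathlib.Tactic.LinearCombination
import Mathlib.Tactic.FieldSimp

/-!
# Points of the plane in general position (no three on a line, no six on a conic)

* `lin a`: the linear form with coefficients `a`; `mul`; `evl`.
* `GP n v`: general position of `v : Fin n → k³`.
* `GP.extend`: a family of at most six vectors in general position extends to seven, the new vectors not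
  proportional to a given one.
* `exists_conic`, `mem_span_conics`.
-/

set_option autoImplicit false
universe u

namespace K230.GenPos

open LefPen MvPolynomial

variable {k : Type u} [Field k]

/-- Evaluation of a form. -/
noncomputable def evl {d : ℕ} (G : Form 2 k d) (w : Fin 3 → k) : k := eval w G.1

@[simp] theorem evl_add {d : ℕ} (F G : Form 2 k d) (w : Fin 3 → k) : evl (F + G) w = evl F w + evl G w := by
  simp [evl]

@[simp] theorem evl_sub {d : ℕ} (F G : Form 2 k d) (w : Fin 3 → k) : evl (F - G) w = evl F w - evl G w := by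
  simp [evl]

@[simp] theorem evl_smul {d : ℕ} (c : k) (G : Form 2 k d) (w : Fin 3 → k) : evl (c • G) w = c * evl G w := by
  simp [evl, smul_eval]

@[simp] theorem evl_zero {d : ℕ} (w : Fin 3 → k) : evl (0 : Form 2 k d) w = 0 := by
  simp [evl]

theorem isHom {d : ℕ} (G : Form 2 k d) : G.1.IsHomogeneous d := G.2

/-- The linear form with coefficients `a`. -/
noncomputable def lin (a : Fin 3 → k) : Form 2 k 1 :=
  ⟨∑ i, C (a i) * X i, by
    refine (homogeneousSubmodule (Fin 3) k 1).sum_mem fun i _ => ?_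
    rw [mem_homogeneousSubmodule]
    exact (isHomogeneous_X k i).C_mul (a i)⟩

theorem evl_lin (a w : Fin 3 → k) : evl (lin a) w = a 0 * w 0 + a 1 * w 1 + a 2 * w 2 := by
  simp [evl, lin, Fin.sum_univ_three]

theorem exists_lin (G : Form 2 k 1) : ∃ a, G = lin a := by
  have h : G.1 ∈ Submodule.span k (Set.range (X : Fin 3 → MvPolynomial (Fin 3) k)) := by
    rw [← homogeneousSubmodule_one_eq_span_X]
    exact G.2
  obtain ⟨a, ha⟩ := (Submodule.mem_span_range_iff_exists_fun k).1 h
  refine ⟨a, Subtype.ext ?_⟩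
  rw [← ha]
  simp [lin, smul_eq_C_mul]

theorem lin_injective {a b : Fin 3 → k} (h : lin a = lin b) : a = b := by
  funext i
  have h1 := congrArg (fun G => evl G (Pi.single i 1)) h
  simp only [evl_lin] at h1
  fin_cases i <;> simpa using h1

theorem lin_ne_zero {a : Fin 3 → k} (h : a ≠ 0) : lin a ≠ 0 := by
  intro h1
  apply h
  apply lin_injective
  rw [h1]
  exact Subtype.ext (by simp [lin])

/-- Products of forms. -/
noncomputable def mul {d e : ℕ} (F : Form 2 k d) (G : Form 2 k e) : Form 2 k (d + e) :=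
  ⟨F.1 * G.1, (isHom F).mul (isHom G)⟩

@[simp] theorem evl_mul {d e : ℕ} (F : Form 2 k d) (G : Form 2 k e) (w : Fin 3 → k) :
    evl (mul F G) w = evl F w * evl G w := by simp [evl, mul]

/-- A quadratic function on `k³`. -/
def IsQuad (f : (Fin 3 → k) → k) : Prop :=
  ∀ (x y z : k) (u v w : Fin 3 → k), f (x • u + y • v + z • w) =
    x ^ 2 * f u + y ^ 2 * f v + z ^ 2 * f w + x * y * (f (u + v) - f u - f v) +
      x * z * (f (u + w) - f u - f w) + y * z * (f (v + w) - f v - f w)

theorem isQuad_evl (Q : Form 2 k 2) : IsQuad (evl Q) := by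
  have h : Q.1 ∈ (homogeneousSubmodule (Fin 3) k 1) * (homogeneousSubmodule (Fin 3) k 1) := by
    rw [← pow_two, homogeneousSubmodule_one_pow]
    exact Q.2
  have key : ∀ p ∈ (homogeneousSubmodule (Fin 3) k 1) * (homogeneousSubmodule (Fin 3) k 1),
      IsQuad fun w => eval w p := by
    intro p hp
    refine Submodule.mul_induction_on hp ?_ ?_
    · intro m hm n hn x y z u v w
      obtain ⟨a, ha⟩ := exists_lin (⟨m, hm⟩ : Form 2 k 1)
      obtain ⟨b, hb⟩ := exists_lin (⟨n, hn⟩ : Form 2 k 1)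
      have h1 : ∀ w, eval w m = a 0 * w 0 + a 1 * w 1 + a 2 * w 2 := fun w => by
        rw [← evl_lin, ← ha]; rfl
      have h2 : ∀ w, eval w n = b 0 * w 0 + b 1 * w 1 + b 2 * w 2 := fun w => by
        rw [← evl_lin, ← hb]; rfl
      simp only [map_mul, h1, h2, Pi.add_apply, Pi.smul_apply, smul_eq_mul]
      ring
    · intro p q hp hq x y z u v w
      have h1 := hp x y z u v w
      have h2 := hq x y z u v w
      simp only [map_add] at h1 h2 ⊢
      rw [h1, h2]
      ring
  exact key Q.1 h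

/-- The cross product. -/
def cr (u v : Fin 3 → k) : Fin 3 → k := ![u 1 * v 2 - u 2 * v 1, u 2 * v 0 - u 0 * v 2, u 0 * v 1 - u 1 * v 0]

/-- The determinant. -/
def D3 (u v w : Fin 3 → k) : k :=
  (u 1 * v 2 - u 2 * v 1) * w 0 + (u 2 * v 0 - u 0 * v 2) * w 1 + (u 0 * v 1 - u 1 * v 0) * w 2

/-- The line through two points. -/
noncomputable def ell (u v : Fin 3 → k) : Form 2 k 1 := lin (cr u v)

theorem evl_ell (u v w : Fin 3 → k) : evl (ell u v) w = D3 u v w := by
  rw [ell, evl_lin, D3]; simp [cr]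

theorem D3_self₁ (u v : Fin 3 → k) : D3 u v u = 0 := by simp only [D3]; ring
theorem D3_self₂ (u v : Fin 3 → k) : D3 u v v = 0 := by simp only [D3]; ring
theorem D3_add (u v w w' : Fin 3 → k) : D3 u v (w + w') = D3 u v w + D3 u v w' := by
  simp only [D3, Pi.add_apply]; ring
theorem D3_swap (u v w : Fin 3 → k) : D3 v u w = - D3 u v w := by simp only [D3]; ring
theorem D3_swap' (u v w : Fin 3 → k) : D3 u w v = - D3 u v w := by simp only [D3]; ring
theorem D3_rot (u v w : Fin 3 → k) : D3 v w u = D3 u v w := by simp only [D3]; ring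

theorem cr_smul_left (c : k) (u v : Fin 3 → k) : cr (c • u) v = c • cr u v := by
  funext i; fin_cases i <;> simp [cr] <;> ring

/-- Cramer's rule. -/
theorem cramer (u v w x : Fin 3 → k) : D3 u v w • x = D3 v w x • u + D3 w u x • v + D3 u v x • w := by
  funext i
  fin_cases i <;> simp [D3] <;> ring

theorem exists_smul_of_cr {u v : Fin 3 → k} (hu : u ≠ 0) (h : cr u v = 0) : ∃ c : k, v = c • u := by
  obtain ⟨i, hi⟩ := Function.ne_iff.1 hu
  have hi : u i ≠ 0 := hi
  have h0 := congrFun h 0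
  have h1 := congrFun h 1
  have h2 := congrFun h 2
  simp only [cr, Pi.zero_apply, Matrix.cons_val_zero, Matrix.cons_val_one, Matrix.cons_val] at h0 h1 h2
  refine ⟨v i / u i, funext fun j => ?_⟩
  rw [Pi.smul_apply, smul_eq_mul, div_mul_eq_mul_div, eq_div_iff hi]
  fin_cases i <;> fin_cases j <;> simp only [Fin.zero_eta, Fin.mk_one, Fin.reduceFinMk] <;> first
    | ring1
    | linear_combination h0
    | linear_combination -h0
    | linear_combination h1
    | linear_combination -h1
    | linear_combination h2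
    | linear_combination -h2

/-- A linear form vanishing at `v₀` is a combination of the lines `v₀ v₁`, `v₀ v₂`. -/
theorem lin_mem_span {u v w a : Fin 3 → k} (hD : D3 u v w ≠ 0) (ha : evl (lin a) u = 0) :
    ∃ c c' : k, lin a = c • ell u v + c' • ell u w := by
  refine ⟨evl (lin a) w / D3 u v w, - evl (lin a) v / D3 u v w, ?_⟩
  have key : a = (evl (lin a) w / D3 u v w) • cr u v + (- evl (lin a) v / D3 u v w) • cr u w := by
    have h0 : a 0 * u 0 + a 1 * u 1 + a 2 * u 2 = 0 := by rw [← evl_lin]; exact ha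
    rw [evl_lin, evl_lin]
    funext i
    rw [Pi.add_apply, Pi.smul_apply, Pi.smul_apply, smul_eq_mul, smul_eq_mul, div_mul_eq_mul_div, div_mul_eq_mul_div,
      ← add_div, eq_div_iff hD]
    fin_cases i <;> simp [cr, D3]
    · linear_combination (v 1 * w 2 - v 2 * w 1) * h0
    · linear_combination (v 2 * w 0 - v 0 * w 2) * h0
    · linear_combination (v 0 * w 1 - v 1 * w 0) * h0
  have h2 : ∀ (c c' : k) (b b' : Fin 3 → k), lin (c • b + c' • b') = c • lin b + c' • lin b' := by
    intro c c' b b'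
    apply Subtype.ext
    simp only [lin, Pi.add_apply, Pi.smul_apply, smul_eq_mul, map_add, map_mul, add_mul, Finset.sum_add_distrib,
      Submodule.coe_add, Submodule.coe_smul, smul_eq_C_mul, Finset.mul_sum, mul_assoc]
  calc lin a = lin ((evl (lin a) w / D3 u v w) • cr u v + (- evl (lin a) v / D3 u v w) • cr u w) := by rw [← key]
    _ = _ := h2 _ _ _ _

theorem form_eq_zero [Infinite k] {d : ℕ} {Q : Form 2 k d} (h : ∀ w, evl Q w = 0) : Q = 0 := by
  apply Subtype.ext
  apply MvPolynomial.funext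
  intro w
  rw [show eval w Q.1 = evl Q w from rfl, h]
  simp

theorem exists_evl_ne_zero [Infinite k] {ι : Type*} [Finite ι] {d : ι → ℕ} (G : ∀ i, Form 2 k (d i))
    (h : ∀ i, G i ≠ 0) : ∃ w, ∀ i, evl (G i) w ≠ 0 := by
  classical
  have := Fintype.ofFinite ι
  have h1 : ∏ i, (G i).1 ≠ 0 := Finset.prod_ne_zero_iff.2 fun i _ h2 => h i (Subtype.ext h2)
  by_contra hcon
  push Not at hcon
  apply h1
  apply MvPolynomial.funext
  intro w
  obtain ⟨i, hi⟩ := hcon w
  rw [map_zero, map_prod, Finset.prod_eq_zero (Finset.mem_univ i) hi]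

/-- Four points, no three on a line. -/
theorem conic_four [Infinite k] {p : Fin 4 → Fin 3 → k}
    (h012 : D3 (p 0) (p 1) (p 2) ≠ 0) (h013 : D3 (p 0) (p 1) (p 3) ≠ 0) (h023 : D3 (p 0) (p 2) (p 3) ≠ 0)
    (Q : Form 2 k 2) (hQ : ∀ i, evl Q (p i) = 0) :
    ∃ α β : k, Q = α • (mul (ell (p 0) (p 1)) (ell (p 2) (p 3)) : Form 2 k 2) +
      β • (mul (ell (p 0) (p 2)) (ell (p 1) (p 3)) : Form 2 k 2) := by
  set F₁ : Form 2 k 2 := mul (ell (p 0) (p 1)) (ell (p 2) (p 3)) with hF₁
  set F₂ : Form 2 k 2 := mul (ell (p 0) (p 2)) (ell (p 1) (p 3)) with hF₂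
  have e₁ : ∀ w, evl F₁ w = D3 (p 0) (p 1) w * D3 (p 2) (p 3) w := fun w => by
    rw [hF₁, evl_mul, evl_ell, evl_ell]
  have e₂ : ∀ w, evl F₂ w = D3 (p 0) (p 2) w * D3 (p 1) (p 3) w := fun w => by
    rw [hF₂, evl_mul, evl_ell, evl_ell]
  have n1 : evl F₂ (p 0 + p 1) ≠ 0 := by
    rw [e₂, D3_add, D3_add, D3_self₁, D3_self₁, zero_add, add_zero]
    refine mul_ne_zero ?_ ?_
    · rw [D3_swap']; exact neg_ne_zero.2 h012
    · rw [D3_rot]; exact h013
  have n2 : evl F₁ (p 0 + p 2) ≠ 0 := by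
    rw [e₁, D3_add, D3_add, D3_self₁, D3_self₁, zero_add, add_zero]
    refine mul_ne_zero h012 ?_
    rw [D3_rot]; exact h023
  have z1 : evl F₁ (p 0 + p 1) = 0 := by
    rw [e₁, D3_add, D3_self₁, D3_self₂, add_zero, zero_mul]
  have z2 : evl F₂ (p 0 + p 2) = 0 := by
    rw [e₂, D3_add, D3_self₁, D3_self₂, add_zero, zero_mul]
  set α := evl Q (p 0 + p 2) / evl F₁ (p 0 + p 2) with hα
  set β := evl Q (p 0 + p 1) / evl F₂ (p 0 + p 1) with hβ
  set R : Form 2 k 2 := Q - (α • F₁ + β • F₂) with hR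
  have eR : ∀ w, evl R w = evl Q w - (α * evl F₁ w + β * evl F₂ w) := fun w => by simp [hR]
  have hRq := isQuad_evl R
  have r0 : evl R (p 0) = 0 := by rw [eR, hQ, e₁, e₂, D3_self₁, D3_self₁]; ring
  have r1 : evl R (p 1) = 0 := by rw [eR, hQ, e₁, e₂, D3_self₂, D3_self₁ (p 1)]; ring
  have r2 : evl R (p 2) = 0 := by rw [eR, hQ, e₁, e₂, D3_self₂ (p 0), D3_self₁ (p 2)]; ring
  have r3 : evl R (p 3) = 0 := by rw [eR, hQ, e₁, e₂, D3_self₂ (p 2), D3_self₂ (p 1)]; ring
  have r01 : evl R (p 0 + p 1) = 0 := by rw [eR, z1, hβ]; field_simp; ring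
  have r02 : evl R (p 0 + p 2) = 0 := by rw [eR, z2, hα]; field_simp; ring
  have hgen : ∀ x y z : k, evl R (x • p 0 + y • p 1 + z • p 2) = y * z * evl R (p 1 + p 2) := by
    intro x y z
    rw [hRq, r0, r1, r2, r01, r02]; ring
  have hsm : ∀ (c : k) (w : Fin 3 → k), evl R (c • w) = c ^ 2 * evl R w := by
    intro c w
    have := hRq c 0 0 w 0 0
    simpa using this
  have r12 : evl R (p 1 + p 2) = 0 := by
    have h1 := hsm (D3 (p 0) (p 1) (p 2)) (p 3)
    rw [cramer, hgen, r3, mul_zero] at h1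
    rcases mul_eq_zero.1 h1 with h2 | h2
    · exfalso
      rcases mul_eq_zero.1 h2 with h3 | h3
      · rw [D3_swap] at h3
        exact h023 (neg_eq_zero.1 h3)
      · exact h013 h3
    · exact h2
  have hz : R = 0 := form_eq_zero fun w => by
    have h1 := hsm (D3 (p 0) (p 1) (p 2)) w
    rw [cramer, hgen, r12, mul_zero] at h1
    rcases mul_eq_zero.1 h1.symm with h2 | h2
    · exact (pow_ne_zero 2 h012 h2).elim
    · exact h2
  exact ⟨α, β, sub_eq_zero.1 hz⟩

/-- The conic through five points, no three on a line. -/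
theorem conic_five [Infinite k] {p : Fin 5 → Fin 3 → k}
    (h : ∀ a b c, a ≠ b → a ≠ c → b ≠ c → D3 (p a) (p b) (p c) ≠ 0) :
    ∃ Q₀ : Form 2 k 2, Q₀ ≠ 0 ∧ (∀ i, evl Q₀ (p i) = 0) ∧
      ∀ Q : Form 2 k 2, (∀ i, evl Q (p i) = 0) → ∃ c : k, Q = c • Q₀ := by
  set F₁ : Form 2 k 2 := mul (ell (p 0) (p 1)) (ell (p 2) (p 3)) with hF₁
  set F₂ : Form 2 k 2 := mul (ell (p 0) (p 2)) (ell (p 1) (p 3)) with hF₂
  have e₁ : ∀ w, evl F₁ w = D3 (p 0) (p 1) w * D3 (p 2) (p 3) w := fun w => by
    rw [hF₁, evl_mul, evl_ell, evl_ell]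
  have e₂ : ∀ w, evl F₂ w = D3 (p 0) (p 2) w * D3 (p 1) (p 3) w := fun w => by
    rw [hF₂, evl_mul, evl_ell, evl_ell]
  have m1 : evl F₁ (p 4) ≠ 0 := by
    rw [e₁]; exact mul_ne_zero (h _ _ _ (by decide) (by decide) (by decide)) (h _ _ _ (by decide) (by decide) (by decide))
  have m2 : evl F₂ (p 4) ≠ 0 := by
    rw [e₂]; exact mul_ne_zero (h _ _ _ (by decide) (by decide) (by decide)) (h _ _ _ (by decide) (by decide) (by decide))
  have n1 : evl F₂ (p 0 + p 1) ≠ 0 := by
    rw [e₂, D3_add, D3_add, D3_self₁, D3_self₁, zero_add, add_zero]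
    exact mul_ne_zero (h _ _ _ (by decide) (by decide) (by decide)) (h _ _ _ (by decide) (by decide) (by decide))
  have z1 : evl F₁ (p 0 + p 1) = 0 := by
    rw [e₁, D3_add, D3_self₁, D3_self₂, add_zero, zero_mul]
  refine ⟨evl F₂ (p 4) • F₁ - evl F₁ (p 4) • F₂, ?_, ?_, ?_⟩
  · intro h0
    have h1 := congrArg (fun G => evl G (p 0 + p 1)) h0
    simp only [evl_sub, evl_smul, z1, evl_zero, mul_zero, zero_sub, neg_eq_zero] at h1
    exact mul_ne_zero m1 n1 h1
  · intro i
    rw [evl_sub, evl_smul, evl_smul]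
    fin_cases i
    · simp [e₁, e₂, D3_self₁]
    · simp [e₁, e₂, D3_self₁, D3_self₂]
    · simp [e₁, e₂, D3_self₁, D3_self₂]
    · simp [e₁, e₂, D3_self₂]
    · simp; ring
  · intro Q hQ
    obtain ⟨α, β, hab⟩ := conic_four (p := fun i => p i.castSucc) (h _ _ _ (by decide) (by decide) (by decide))
      (h _ _ _ (by decide) (by decide) (by decide)) (h _ _ _ (by decide) (by decide) (by decide)) Q fun i => hQ _
    have hab' : Q = α • F₁ + β • F₂ := hab
    have h4 := hQ 4
    rw [hab', evl_add, evl_smul, evl_smul] at h4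
    refine ⟨α / evl F₂ (p 4), ?_⟩
    have hβ : β = -(α / evl F₂ (p 4)) * evl F₁ (p 4) := by
      field_simp
      linear_combination h4
    rw [hab', hβ, smul_sub, smul_smul, smul_smul, div_mul_cancel₀ _ m2, neg_mul, sub_eq_add_neg]
    congr 1
    exact neg_smul _ F₂

/-- General position: no three on a line, no six on a conic. -/
structure GP {n : ℕ} (v : Fin n → Fin 3 → k) : Prop where
  ne : ∀ i, v i ≠ 0
  pair : ∀ i j, i ≠ j → cr (v i) (v j) ≠ 0
  tri : ∀ i j l, i ≠ j → i ≠ l → j ≠ l → D3 (v i) (v j) (v l) ≠ 0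
  six : ∀ b : Fin 6 → Fin n, Function.Injective b → ∀ Q : Form 2 k 2, (∀ t, evl Q (v (b t)) = 0) → Q = 0

theorem exists_perp (u : Fin 3 → k) : ∃ c : Fin 3 → k, c ≠ 0 ∧ evl (lin c) u = 0 := by
  by_cases h : u 0 = 0
  · refine ⟨Pi.single 0 1, by simp, ?_⟩
    rw [evl_lin]; simp [h]
  · refine ⟨![- u 1, u 0, 0], fun h1 => h (by simpa using congrFun h1 1), ?_⟩
    rw [evl_lin]; simp; ring

theorem cr_ne_zero_of_lin {u w c : Fin 3 → k} (hu : u ≠ 0) (h : evl (lin c) u = 0) (h' : evl (lin c) w ≠ 0) :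
    cr u w ≠ 0 := by
  intro h0
  obtain ⟨a, rfl⟩ := exists_smul_of_cr hu h0
  apply h'
  rw [evl_lin] at h ⊢
  simp only [Pi.smul_apply, smul_eq_mul]
  linear_combination a * h

theorem cr_anti (u v : Fin 3 → k) : cr v u = - cr u v := by
  funext i; fin_cases i <;> simp [cr] <;> ring

/-- Extension by one vector. -/
theorem GP.extend_one [Infinite k] {n : ℕ} {v : Fin n → Fin 3 → k} (hv : GP v) (u : Fin 3 → k) (hu : u ≠ 0) :
    ∃ w : Fin 3 → k, GP (Fin.snoc (α := fun _ => Fin 3 → k) v w : Fin (n + 1) → Fin 3 → k) ∧ cr u w ≠ 0 := by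
  classical
  choose c hc hc' using fun i => exists_perp (v i)
  obtain ⟨c₀, hc₀, hc₀'⟩ := exists_perp u
  have hfive : ∀ b : {b : Fin 5 → Fin n // Function.Injective b}, ∃ Q₀ : Form 2 k 2, Q₀ ≠ 0 ∧
      ∀ Q : Form 2 k 2, (∀ t, evl Q (v (b.1 t)) = 0) → ∃ c : k, Q = c • Q₀ := fun b => by
    obtain ⟨Q₀, h1, -, h2⟩ := conic_five (p := fun t => v (b.1 t)) fun i j l h1 h2 h3 =>
      hv.tri _ _ _ (b.2.ne h1) (b.2.ne h2) (b.2.ne h3)
    exact ⟨Q₀, h1, h2⟩
  choose q hq hq' using hfive
  -- all the forms to be avoided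
  let I := Unit ⊕ (Fin n ⊕ ({p : Fin n × Fin n // p.1 ≠ p.2} ⊕ {b : Fin 5 → Fin n // Function.Injective b}))
  let dg : I → ℕ := Sum.elim (fun _ => 1) (Sum.elim (fun _ => 1) (Sum.elim (fun _ => 1) (fun _ => 2)))
  let G : ∀ i : I, Form 2 k (dg i) := fun i => match i with
    | Sum.inl _ => lin c₀
    | Sum.inr (Sum.inl i) => lin (c i)
    | Sum.inr (Sum.inr (Sum.inl p)) => ell (v p.1.1) (v p.1.2)
    | Sum.inr (Sum.inr (Sum.inr b)) => q b
  obtain ⟨w, hw⟩ := exists_evl_ne_zero G (by
    rintro (i | i | p | b)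
    · exact lin_ne_zero hc₀
    · exact lin_ne_zero (hc i)
    · exact lin_ne_zero (hv.pair _ _ p.2)
    · exact hq b)
  have w0 : evl (lin c₀) w ≠ 0 := hw (Sum.inl ())
  have w1 : ∀ i, evl (lin (c i)) w ≠ 0 := fun i => hw (Sum.inr (Sum.inl i))
  have w2 : ∀ i j, i ≠ j → D3 (v i) (v j) w ≠ 0 := fun i j h => by
    rw [← evl_ell]; exact hw (Sum.inr (Sum.inr (Sum.inl ⟨(i, j), h⟩)))
  have w3 : ∀ b, evl (q b) w ≠ 0 := fun b => hw (Sum.inr (Sum.inr (Sum.inr b)))
  have hwne : w ≠ 0 := by
    rintro rfl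
    apply w0
    rw [evl_lin]; simp
  have hwp : ∀ i, cr (v i) w ≠ 0 := fun i => cr_ne_zero_of_lin (hv.ne i) (hc' i) (w1 i)
  refine ⟨w, ⟨?_, ?_, ?_, ?_⟩, cr_ne_zero_of_lin hu hc₀' w0⟩
  · intro i
    induction i using Fin.lastCases with
    | last => rw [Fin.snoc_last]; exact hwne
    | cast i => rw [Fin.snoc_castSucc]; exact hv.ne i
  · intro i j hij
    induction i using Fin.lastCases with
    | last =>
      induction j using Fin.lastCases with
      | last => exact (hij rfl).elim
      | cast j => rw [Fin.snoc_last, Fin.snoc_castSucc, cr_anti]; exact neg_ne_zero.2 (hwp j)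
    | cast i =>
      induction j using Fin.lastCases with
      | last => rw [Fin.snoc_last, Fin.snoc_castSucc]; exact hwp i
      | cast j =>
        rw [Fin.snoc_castSucc, Fin.snoc_castSucc]
        exact hv.pair i j fun h => hij (by rw [h])
  · intro i j l hij hil hjl
    induction i using Fin.lastCases with
    | last =>
      induction j using Fin.lastCases with
      | last => exact (hij rfl).elim
      | cast j =>
        induction l using Fin.lastCases with
        | last => exact (hil rfl).elim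
        | cast l =>
          rw [Fin.snoc_last, Fin.snoc_castSucc, Fin.snoc_castSucc, ← D3_rot]
          exact w2 j l fun h => hjl (by rw [h])
    | cast i =>
      induction j using Fin.lastCases with
      | last =>
        induction l using Fin.lastCases with
        | last => exact (hjl rfl).elim
        | cast l =>
          rw [Fin.snoc_last, Fin.snoc_castSucc, Fin.snoc_castSucc, D3_swap']
          exact neg_ne_zero.2 (w2 i l fun h => hil (by rw [h]))
      | cast j =>
        induction l using Fin.lastCases with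
        | last =>
          rw [Fin.snoc_last, Fin.snoc_castSucc, Fin.snoc_castSucc]
          exact w2 i j fun h => hij (by rw [h])
        | cast l =>
          rw [Fin.snoc_castSucc, Fin.snoc_castSucc, Fin.snoc_castSucc]
          exact hv.tri i j l (fun h => hij (by rw [h])) (fun h => hil (by rw [h])) (fun h => hjl (by rw [h]))
  · intro b hb Q hQ
    by_cases hlast : ∃ t₀, b t₀ = Fin.last n
    · obtain ⟨t₀, ht₀⟩ := hlast
      have hne : ∀ t : Fin 5, b (t₀.succAbove t) ≠ Fin.last n := fun t h =>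
        (Fin.succAbove_ne t₀ t) (hb (h.trans ht₀.symm))
      let b' : Fin 5 → Fin n := fun t => (b (t₀.succAbove t)).castPred (hne t)
      have hb' : ∀ t, (b' t).castSucc = b (t₀.succAbove t) := fun t => Fin.castSucc_castPred _ _
      have hinj : Function.Injective b' := by
        intro t t' h
        have h1 := congrArg Fin.castSucc h
        rw [hb', hb'] at h1
        exact Fin.succAbove_right_injective (hb h1)
      obtain ⟨c, hcQ⟩ := hq' ⟨b', hinj⟩ Q (fun t => by
        have h1 := hQ (t₀.succAbove t)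
        rw [← hb', Fin.snoc_castSucc] at h1
        exact h1)
      have h1 := hQ t₀
      rw [ht₀, Fin.snoc_last, hcQ, evl_smul] at h1
      have hc0 : c = 0 := (mul_eq_zero.1 h1).resolve_right (w3 _)
      rw [hcQ, hc0, zero_smul]
    · push Not at hlast
      let b' : Fin 6 → Fin n := fun t => (b t).castPred (hlast t)
      have hb' : ∀ t, (b' t).castSucc = b t := fun t => Fin.castSucc_castPred _ _
      refine hv.six b' ?_ Q fun t => ?_
      · intro t t' h
        have h1 := congrArg Fin.castSucc h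
        rw [hb', hb'] at h1
        exact hb h1
      · have h1 := hQ t
        rw [← hb', Fin.snoc_castSucc] at h1
        exact h1

/-- Extension to seven vectors. -/
theorem GP.extend [Infinite k] {s : ℕ} (hs : s ≤ 7) {v : Fin s → Fin 3 → k} (hv : GP v) (u : Fin 3 → k) (hu : u ≠ 0) :
    ∃ v' : Fin 7 → Fin 3 → k, GP v' ∧ (∀ i, v' (Fin.castLE hs i) = v i) ∧ ∀ i : Fin 7, s ≤ i.1 → cr u (v' i) ≠ 0 := by
  have key : ∀ n (hn : s ≤ n), ∃ v' : Fin n → Fin 3 → k, GP v' ∧ (∀ i, v' (Fin.castLE hn i) = v i) ∧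
      ∀ i : Fin n, s ≤ i.1 → cr u (v' i) ≠ 0 := by
    intro n hn
    induction n, hn using Nat.le_induction with
    | base => exact ⟨v, hv, fun i => rfl, fun i hi => absurd i.2 (not_lt.2 hi)⟩
    | succ n hn ih =>
      obtain ⟨v', h1, h2, h3⟩ := ih
      obtain ⟨w, h4, h5⟩ := h1.extend_one u hu
      refine ⟨_, h4, fun i => ?_, fun i hi => ?_⟩
      · have e : Fin.castLE (Nat.le_succ_of_le hn) i = (Fin.castLE hn i).castSucc := rfl
        rw [e, Fin.snoc_castSucc, h2]
      · induction i using Fin.lastCases with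
        | last => rw [Fin.snoc_last]; exact h5
        | cast i => rw [Fin.snoc_castSucc]; exact h3 i (by simpa using hi)
  exact key 7 hs

section Seven

variable {v : Fin 7 → Fin 3 → k} (hv : GP v)

include hv in
/-- A conic through six of the seven points vanishes. -/
theorem conic_six (i : Fin 7) (Q : Form 2 k 2) (h : ∀ l, l ≠ i → evl Q (v l) = 0) : Q = 0 :=
  hv.six i.succAbove Fin.succAbove_right_injective Q fun t => h _ (Fin.succAbove_ne i t)

include hv in
theorem exists_conic [Infinite k] (i j : Fin 7) (hij : i ≠ j) :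
    ∃ Q : Form 2 k 2, Q ≠ 0 ∧ ∀ l, l ≠ i → l ≠ j → evl Q (v l) = 0 := by
  obtain ⟨j', rfl⟩ := Fin.exists_succAbove_eq hij.symm
  obtain ⟨Q, h1, h2, -⟩ := conic_five (p := fun t => v (i.succAbove (j'.succAbove t))) fun a b c h1 h2 h3 =>
      hv.tri _ _ _ (fun h => h1 (Fin.succAbove_right_injective (Fin.succAbove_right_injective h)))
        (fun h => h2 (Fin.succAbove_right_injective (Fin.succAbove_right_injective h)))
        (fun h => h3 (Fin.succAbove_right_injective (Fin.succAbove_right_injective h)))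
  refine ⟨Q, h1, fun l hl hl' => ?_⟩
  obtain ⟨l', rfl⟩ := Fin.exists_succAbove_eq hl
  obtain ⟨l'', rfl⟩ := Fin.exists_succAbove_eq (show l' ≠ j' from fun h => hl' (by rw [h]))
  exact h2 l''

include hv in
/-- A conic through the points other than `i, j, l` is a combination of the conics `Q i j` and `Q i l`. -/
theorem mem_span_conics {i j l : Fin 7} (hij : i ≠ j) (hil : i ≠ l) (hjl : j ≠ l) {Q Q' : Form 2 k 2}
    (hQ : Q ≠ 0) (hQ0 : ∀ m, m ≠ i → m ≠ j → evl Q (v m) = 0)
    (hQ' : Q' ≠ 0) (hQ'0 : ∀ m, m ≠ i → m ≠ l → evl Q' (v m) = 0) (S : Form 2 k 2)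
    (hS : ∀ m, m ≠ i → m ≠ j → m ≠ l → evl S (v m) = 0) : ∃ c c' : k, S = c • Q + c' • Q' := by
  have h1 : evl Q (v j) ≠ 0 := fun h => hQ (conic_six hv i Q fun m hm => by
    by_cases hmj : m = j
    · rw [hmj]; exact h
    · exact hQ0 m hm hmj)
  have h2 : evl Q' (v l) ≠ 0 := fun h => hQ' (conic_six hv i Q' fun m hm => by
    by_cases hml : m = l
    · rw [hml]; exact h
    · exact hQ'0 m hm hml)
  have h3 : evl Q (v l) = 0 := hQ0 l hil.symm hjl.symm
  have h4 : evl Q' (v j) = 0 := hQ'0 j hij.symm hjl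
  refine ⟨evl S (v j) / evl Q (v j), evl S (v l) / evl Q' (v l), ?_⟩
  have h5 : S - ((evl S (v j) / evl Q (v j)) • Q + (evl S (v l) / evl Q' (v l)) • Q') = 0 := by
    refine conic_six hv i _ fun m hm => ?_
    rw [evl_sub, evl_add, evl_smul, evl_smul]
    by_cases hmj : m = j
    · rw [hmj, h4]
      field_simp
      ring
    · by_cases hml : m = l
      · rw [hml, h3]
        field_simp
        ring
      · rw [hS m hm hmj hml, hQ0 m hm hmj, hQ'0 m hm hml]
        ring
  exact sub_eq_zero.1 h5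

end Seven

end K230.GenPos
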