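import Groth.Agent.VBPn.K230.GenPos
import Groth.Agent.VBPn.K700.BlPts
import Groth.Agent.Lefpen.H702.AffAlg
import Groth.Agent.Lefpen.H720.HomPt
import Mathlib.AlgebraicGeometry.AlgClosed.Basic

/-!
# Points of the projective plane and ideals of curves

* `PtOf p w`: `p` is the point with homogeneous coordinates `w`.
* `PtOf.mem_support`, `PtOf.le_vanishing`: forms vanishing at `p`.
* `hypIdeal_mul`, `hypIdeal_comb_le`.
* `PtOf.vanishing_le`: the ideal of `p` is generated by two lines through `p`.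
-/

set_option autoImplicit false
universe u

open CategoryTheory CategoryTheory.Limits AlgebraicGeometry Opposite TopologicalSpace

namespace K230.PlanePt

open Groth.Agent LefPen K230.GenPos Groth.Agent.Lefpen.H720.HomPt Groth.Agent.Lefpen.H720.AffPt
open Groth.Agent.Lefpen.H705.HypIdeal Groth.Agent.Lefpen.H705.ChartPoly Scheme.IdealSheafData
open Groth.Agent.Fdesc.LocGen Groth.Agent.Sga5

variable {k : Type u} [Field k]

/-- The point `p` has homogeneous coordinates `w`. -/
def PtOf (p : CohB1.ProjSpace 2 k) (w : Fin 3 → k) : Prop :=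
  ∃ i, w i ≠ 0 ∧ ∀ z, (hpt i w : Spec (CommRingCat.of k) ⟶ CohB1.ProjSpace 2 k) z = p

theorem exists_ptOf {w : Fin 3 → k} (hw : w ≠ 0) : ∃ p, PtOf p w := by
  obtain ⟨i, hi⟩ := Function.ne_iff.1 hw
  exact ⟨hpt i w (IsLocalRing.closedPoint k), i, hi, fun z => congrArg _ (Subsingleton.elim _ _)⟩

variable {p : CohB1.ProjSpace 2 k} {w : Fin 3 → k} (h : PtOf p w)

include h

theorem PtOf.ne : w ≠ 0 := by
  obtain ⟨i, hi, -⟩ := h
  rintro rfl
  exact hi rfl

theorem PtOf.eq {i : Fin 3} (hi : w i ≠ 0) (z) :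
    (hpt i w : Spec (CommRingCat.of k) ⟶ CohB1.ProjSpace 2 k) z = p := by
  obtain ⟨j, hj, hz⟩ := h
  rw [hpt_indep hi hj]
  exact hz z

theorem PtOf.isClosed : IsClosed ({p} : Set (CohB1.ProjSpace 2 k)) := by
  obtain ⟨i, hi, hz⟩ := h
  have h1 : (hpt i w : Spec (CommRingCat.of k) ⟶ CohB1.ProjSpace 2 k) ≫ CohB1.ProjSpace.toSpec 2 k = 𝟙 _ := by
    rw [hpt, apt_toSpec]
    exact Spec.map_id _
  have h2 : IsProper (CohB1.ProjSpace.toSpec 2 k) := Groth.Agent.Ega3B.ProjProper.isProper_toSpec 2 k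
  have h3 := K700.BlPts.isClosedImmersion_section (CohB1.ProjSpace.toSpec 2 k) _ h1
  have h4 := h3.isClosedEmbedding.isClosed_range
  convert h4
  ext y
  constructor
  · rintro rfl
    exact ⟨IsLocalRing.closedPoint k, hz _⟩
  · rintro ⟨z, rfl⟩
    exact hz z

theorem PtOf.mem_support {d : ℕ} (G : Form 2 k d) : p ∈ (hypIdeal G).support ↔ evl G w = 0 := by
  obtain ⟨i, hi, hz⟩ := id h
  rw [evl, ← aeval_dehom_eq_zero_iff i w hi G]
  constructor
  · intro hp
    have h1 : hypIdeal G ≤ (hpt i w : Spec (CommRingCat.of k) ⟶ CohB1.ProjSpace 2 k).ker := by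
      rw [K700.BlPts.ker_point _ p h.isClosed hz, ← le_support_iff_le_vanishingIdeal]
      intro y hy
      rw [Set.mem_singleton_iff.1 hy]
      exact hp
    have hle : (hypIdeal G).subschemeι.ker ≤ (hpt i w : Spec (CommRingCat.of k) ⟶ CohB1.ProjSpace 2 k).ker := by
      rw [ker_subschemeι]
      exact h1
    exact dehom_eq_zero G i (aff i w) (IsClosedImmersion.lift _ _ hle) (IsClosedImmersion.lift_fac _ _ hle)
  · intro h0
    obtain ⟨g, hg⟩ := exists_lift_apt G i (aff i w) h0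
    rw [← SetLike.mem_coe, ← (hypIdeal G).range_subschemeι]
    refine ⟨g (IsLocalRing.closedPoint k), ?_⟩
    rw [← Scheme.Hom.comp_apply, hg]
    exact hz _

theorem PtOf.le_vanishing {d : ℕ} {G : Form 2 k d} (hG : evl G w = 0) :
    hypIdeal G ≤ vanishingIdeal ⟨{p}, h.isClosed⟩ := by
  rw [← le_support_iff_le_vanishingIdeal]
  intro y hy
  rw [Set.mem_singleton_iff.1 hy]
  exact (h.mem_support G).2 hG

theorem PtOf.mem_chart {i : Fin 3} (hi : w i ≠ 0) : p ∈ LefPen.chart 2 k i := by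
  rw [← h.eq hi (IsLocalRing.closedPoint k)]
  exact top_le_preimage_apt (k := k) i (aff i w) (x := _) trivial

omit h

/-- The affine chart. -/
noncomputable abbrev U (j : Fin 3) : (CohB1.ProjSpace 2 k).affineOpens := ⟨LefPen.chart 2 k j, isAffineOpen_chart j⟩

theorem iSup_U : ⨆ j : Fin 3, (U (k := k) j).1 = ⊤ := iSup_chart

theorem hypIdeal_ideal {d : ℕ} (G : Form 2 k d) (j : Fin 3) :
    (hypIdeal G).ideal (U j) = Ideal.span {dehom G j} := by
  rw [hypIdeal_ideal_of_le G j (U j) le_rfl, ores_refl]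

theorem dehom_mul {d e : ℕ} (F : Form 2 k d) (G : Form 2 k e) (j : Fin 3) :
    dehom (mul F G) j = dehom F j * dehom G j := by
  rw [dehom_eq, dehom_eq, dehom_eq, ← map_mul, ← map_mul]
  rfl

theorem dehom_comb {d : ℕ} (F G : Form 2 k d) (c c' : k) (j : Fin 3) :
    dehom (c • F + c' • G) j = polyToChart j (MvPolynomial.C c) * dehom F j +
      polyToChart j (MvPolynomial.C c') * dehom G j := by
  rw [dehom_eq, dehom_eq, dehom_eq, ← map_mul, ← map_mul, ← map_add]
  congr 1
  rw [Submodule.coe_add, Submodule.coe_smul, Submodule.coe_smul, map_add, MvPolynomial.smul_eq_C_mul,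
    MvPolynomial.smul_eq_C_mul, map_mul, map_mul]
  congr 2 <;> simp [ProjChart.dehom]

theorem hypIdeal_mul {d e : ℕ} (F : Form 2 k d) (G : Form 2 k e) :
    hypIdeal (mul F G) = hypIdeal F * hypIdeal G := by
  refine ext_of_iSup_eq_top (ι := Fin 3) U iSup_U fun j => ?_
  rw [ideal_mul, Pi.mul_apply, hypIdeal_ideal, hypIdeal_ideal, hypIdeal_ideal, dehom_mul,
    Ideal.span_singleton_mul_span_singleton]

theorem hypIdeal_comb_le {d : ℕ} (F G : Form 2 k d) (c c' : k) :
    hypIdeal (c • F + c' • G) ≤ hypIdeal F ⊔ hypIdeal G := by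
  refine le_of_iSup_eq_top (ι := Fin 3) U iSup_U fun j => ?_
  rw [ideal_sup, Pi.sup_apply, hypIdeal_ideal, hypIdeal_ideal, hypIdeal_ideal, Ideal.span_singleton_le_iff_mem,
    dehom_comb]
  exact Ideal.add_mem _ (Ideal.mem_sup_left (Ideal.mul_mem_left _ _ (Ideal.mem_span_singleton_self _)))
    (Ideal.mem_sup_right (Ideal.mul_mem_left _ _ (Ideal.mem_span_singleton_self _)))

theorem lin_val (a : Fin 3 → k) : (lin a : Form 2 k 1).1 = ∑ i, MvPolynomial.C (a i) * MvPolynomial.X i := rfl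

theorem lin_single_val (j : Fin 3) (c : k) : (lin (Pi.single j c) : Form 2 k 1).1 =
    MvPolynomial.C c * MvPolynomial.X j := by
  rw [lin_val, Finset.sum_eq_single j]
  · rw [Pi.single_eq_same]
  · intro b _ hb
    rw [Pi.single_eq_of_ne hb, map_zero, zero_mul]
  · intro h
    exact (h (Finset.mem_univ j)).elim

theorem lin_sub_val (a b : Fin 3 → k) : (lin (a - b) : Form 2 k 1).1 = (lin a).1 - (lin b).1 := by
  rw [lin_val, lin_val, lin_val, ← Finset.sum_sub_distrib]
  refine Finset.sum_congr rfl fun i _ => ?_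
  rw [Pi.sub_apply, map_sub, sub_mul]

theorem evl_lin_eq (a w : Fin 3 → k) : evl (lin a) w = ∑ i, a i * w i := by
  rw [evl_lin, Fin.sum_univ_three]

theorem sum_single (j : Fin 3) (c : k) (w : Fin 3 → k) : ∑ i, (Pi.single j c : Fin 3 → k) i * w i = c * w j := by
  rw [Finset.sum_eq_single j]
  · rw [Pi.single_eq_same]
  · intro b _ hb
    rw [Pi.single_eq_of_ne hb, zero_mul]
  · intro h
    exact (h (Finset.mem_univ j)).elim

/-- `T_j` in the chart `j` is `1`. -/
theorem dehom_lin_self (j : Fin 3) : dehom (lin (Pi.single j 1) : Form 2 k 1) j = 1 := by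
  rw [dehom_eq, lin_single_val, map_one, one_mul]
  simp [ProjChart.dehom]

theorem dehom_lin_pt (j : Fin 3) (w : Fin 3 → k) (hj : w j ≠ 0) (l : Fin 2) :
    ∃ a : Fin 3 → k, evl (lin a) w = 0 ∧ dehom (lin a : Form 2 k 1) j =
      polyToChart j (MvPolynomial.X l - MvPolynomial.C (aff j w l)) := by
  refine ⟨Pi.single (j.succAbove l) 1 - Pi.single j (aff j w l), ?_, ?_⟩
  · rw [evl_lin_eq]
    simp only [Pi.sub_apply, sub_mul, Finset.sum_sub_distrib]
    rw [sum_single, sum_single]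
    simp [aff, hj]
  · rw [dehom_eq, lin_sub_val, lin_single_val, lin_single_val, map_one, one_mul]
    congr 1
    rw [map_sub, map_mul]
    simp [ProjChart.dehom]

theorem mem_support_vanishing {Y : Scheme.{u}} {Z : Closeds Y} {y : Y} :
    y ∈ (vanishingIdeal Z : Y.IdealSheafData).support ↔ y ∈ Z := by
  rw [← SetLike.mem_coe, coe_support_vanishingIdeal]
  rfl

include h

/-- The ideal of a point is generated by two lines through it. -/
theorem PtOf.vanishing_le {v v' : Fin 3 → k} (hD : D3 w v v' ≠ 0) :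
    vanishingIdeal ⟨{p}, h.isClosed⟩ ≤ hypIdeal (ell w v) ⊔ hypIdeal (ell w v') := by
  set A := hypIdeal (ell w v) ⊔ hypIdeal (ell w v') with hA
  have hlin : ∀ a : Fin 3 → k, evl (lin a) w = 0 → hypIdeal (lin a) ≤ A := by
    intro a ha
    obtain ⟨c, c', e⟩ := lin_mem_span hD ha
    rw [e]
    exact hypIdeal_comb_le _ _ _ _
  have hmem : ∀ (a : Fin 3 → k) (j : Fin 3), evl (lin a) w = 0 → dehom (lin a : Form 2 k 1) j ∈ A.ideal (U j) := by
    intro a j ha
    refine (hlin a ha) (U j) ?_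
    rw [hypIdeal_ideal]
    exact Ideal.mem_span_singleton_self _
  have hle : A ≤ vanishingIdeal ⟨{p}, h.isClosed⟩ := by
    refine sup_le (h.le_vanishing ?_) (h.le_vanishing ?_)
    · rw [evl_ell, D3_self₁]
    · rw [evl_ell, D3_self₁]
  refine le_of_iSup_eq_top (ι := Fin 3) U iSup_U fun j => ?_
  by_cases hj : w j = 0
  · have h1 := hmem (Pi.single j 1) j (by rw [evl_lin_eq, sum_single, hj, mul_zero])
    rw [dehom_lin_self] at h1
    rw [(Ideal.eq_top_iff_one _).2 h1]
    exact le_top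
  · intro f hf
    obtain ⟨q, rfl⟩ := (polyToChart_bijective j).2 f
    have h1 : ∀ q ∈ Lefpen.H702.AffAlg.ptIdeal (aff j w), polyToChart j q ∈ A.ideal (U j) := by
      intro q hq
      have h2 : Lefpen.H702.AffAlg.ptIdeal (aff j w) ≤ (A.ideal (U j)).comap (polyToChart j) := by
        rw [Lefpen.H702.AffAlg.ptIdeal, Ideal.span_le]
        rintro _ ⟨l, rfl⟩
        obtain ⟨a, ha, e⟩ := dehom_lin_pt j w hj l
        change polyToChart j _ ∈ A.ideal (U j)
        rw [← e]
        exact hmem a j ha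
      exact h2 hq
    have h2 := h1 _ (Lefpen.H702.AffAlg.sub_C_mem (aff j w) q)
    rw [map_sub] at h2
    by_cases hc : MvPolynomial.eval (aff j w) q = 0
    · rw [hc, map_zero, map_zero, sub_zero] at h2
      exact h2
    · exfalso
      have h3 : polyToChart j (MvPolynomial.C (MvPolynomial.eval (aff j w) q)) ∈
          (vanishingIdeal ⟨{p}, h.isClosed⟩).ideal (U j) := by
        have h4 := Ideal.sub_mem _ hf (hle (U j) h2)
        simpa using h4
      have h5 : IsUnit (polyToChart j (MvPolynomial.C (MvPolynomial.eval (aff j w) q)) : Γ(CohB1.ProjSpace 2 k, (U j).1)) :=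
        ((isUnit_iff_ne_zero.2 hc).map MvPolynomial.C).map (polyToChart j)
      have h6 := Ideal.eq_top_of_isUnit_mem _ h3 h5
      have h7 : p ∈ (vanishingIdeal ⟨{p}, h.isClosed⟩ : (CohB1.ProjSpace 2 k).IdealSheafData).support :=
        mem_support_vanishing.2 rfl
      rw [mem_support_iff_of_mem (U := U j) (h.mem_chart hj), h6] at h7
      simp only [Submodule.top_coe, Scheme.mem_zeroLocus_iff, Set.mem_univ, forall_const] at h7
      have h8 := h7 1
      rw [Scheme.basicOpen_of_isUnit _ isUnit_one] at h8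
      exact h8 (h.mem_chart hj)

omit h

theorem PtOf.eq_of_cr {p' : CohB1.ProjSpace 2 k} {w' : Fin 3 → k} (h : PtOf p w) (h' : PtOf p' w') (hc : cr w w' = 0) :
    p = p' := by
  obtain ⟨c, rfl⟩ := exists_smul_of_cr h.ne hc
  have hc0 : c ≠ 0 := by
    rintro rfl
    exact h'.ne (zero_smul _ _)
  obtain ⟨j, hj, hz⟩ := h'
  have hi : w j ≠ 0 := fun h0 => hj (by simp [h0])
  rw [← hz (IsLocalRing.closedPoint k), ← h.eq hi (IsLocalRing.closedPoint k), hpt_smul hc0 hi hj]

theorem PtOf.ne_of_cr {p' : CohB1.ProjSpace 2 k} {w' : Fin 3 → k} (h : PtOf p w) (h' : PtOf p' w') (hc : cr w w' ≠ 0) :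
    p ≠ p' := by
  rintro rfl
  obtain ⟨i, hi⟩ := Function.ne_iff.1 hc
  have h1 : evl (ell w (Pi.single i 1)) w' = - cr w w' i := by
    rw [evl_ell, D3_swap']
    congr 1
    fin_cases i <;> simp [D3, cr]
  have h2 := (h.mem_support (ell w (Pi.single i 1))).2 (by rw [evl_ell, D3_self₁])
  have h3 := (h'.mem_support (ell w (Pi.single i 1))).1 h2
  rw [h1] at h3
  exact hi (by simpa using h3)

theorem exists_coord [IsAlgClosed k] (p : CohB1.ProjSpace 2 k) (hp : IsClosed ({p} : Set (CohB1.ProjSpace 2 k))) :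
    ∃ w, PtOf p w := by
  have h2 : IsProper (CohB1.ProjSpace.toSpec 2 k) := Groth.Agent.Ega3B.ProjProper.isProper_toSpec 2 k
  have h1 := pointOfClosedPoint_comp (CohB1.ProjSpace.toSpec 2 k) p hp
  obtain ⟨j, a, e⟩ := exists_eq_apt (k := k) (pointOfClosedPoint (CohB1.ProjSpace.toSpec 2 k) p hp)
    (h1.trans (Spec.map_id _).symm)
  refine ⟨Fin.insertNth (α := fun _ => k) j 1 a, j, by simp, fun z => ?_⟩
  have h3 : (hpt j (Fin.insertNth (α := fun _ => k) j 1 a) : Spec (CommRingCat.of k) ⟶ CohB1.ProjSpace 2 k) =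
      pointOfClosedPoint (CohB1.ProjSpace.toSpec 2 k) p hp := by
    rw [e, hpt]
    congr 1
    funext l
    simp [aff]
  rw [h3]
  exact pointOfClosedPoint_apply _ _ _ _

theorem vanishing_sup_eq_top {Y : Scheme.{u}} {x y : Y} (hx : IsClosed ({x} : Set Y)) (hy : IsClosed ({y} : Set Y))
    (h : x ≠ y) : (vanishingIdeal ⟨{x}, hx⟩ : Y.IdealSheafData) ⊔ vanishingIdeal ⟨{y}, hy⟩ = ⊤ := by
  rw [← support_eq_bot_iff, support_sup]
  ext z
  simp only [Closeds.coe_inf, Set.mem_inter_iff, Closeds.coe_bot, Set.mem_empty_iff_false, iff_false, not_and]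
  intro h1 h2
  have h1' : z = x := mem_support_vanishing.1 h1
  have h2' : z = y := mem_support_vanishing.1 h2
  exact h (h1'.symm.trans h2')

end K230.PlanePt
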