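import Groth.Agent.ModPair.K971.Basic
import Groth.Agent.ModPair.K972.Basic
import Groth.Agent.Surf.K464.Base

/-!
# Residual divisors of a configuration of seven points

Formal arithmetic of ideals. `M i` (`i : Fin 7`) are pairwise coprime ideals, those with `R i` effective Cartier;
`D i j` (lines) and `Q i j` (conics) are effective Cartier ideals with the incidences of seven points in general
position.  `exists_good`: outside the `M i` which are not effective Cartier, for `i ≠ i'` there is `j` such that the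
residual ideals of `D i j`, `Q i j`, `D i' j`, `Q i' j` do not meet the given point.
-/

set_option autoImplicit false
universe u

open CategoryTheory CategoryTheory.Limits AlgebraicGeometry Opposite TopologicalSpace

namespace K230.Resid

open BlowUp

variable {X : Scheme.{u}}

theorem mul_le_mul_left_iff {E : X.IdealSheafData} (hE : IsEffCartierIdeal E) {I J : X.IdealSheafData}
    (h : E * I ≤ E * J) : I ≤ J := by
  rw [mul_comm E, mul_comm E] at h
  exact K972.Basic.le_of_mul_le_mul hE h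

theorem le_mul_of_sup_eq_top {D A B : X.IdealSheafData} (hA : D ≤ A) (hB : D ≤ B) (h : A ⊔ B = ⊤) : D ≤ A * B := by
  have h1 : D = D * A ⊔ D * B := by rw [← Scheme.IdealSheafData.mul_inf, h, Scheme.IdealSheafData.mul_top]
  rw [h1]
  refine sup_le ?_ ?_
  · rw [mul_comm D A]
    exact K971.Basic.mul_mono le_rfl hB
  · exact K971.Basic.mul_mono hA le_rfl

theorem sup_mul_eq_top {A B C : X.IdealSheafData} (hB : A ⊔ B = ⊤) (hC : A ⊔ C = ⊤) : A ⊔ B * C = ⊤ := by
  rw [eq_top_iff]
  calc (⊤ : X.IdealSheafData) = (A ⊔ B) * (A ⊔ C) := by rw [hB, hC, Scheme.IdealSheafData.mul_top]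
    _ ≤ A ⊔ B * C := by
      rw [Scheme.IdealSheafData.mul_inf, Scheme.IdealSheafData.inf_mul, Scheme.IdealSheafData.inf_mul]
      refine sup_le (sup_le ?_ ?_) (sup_le ?_ le_sup_right)
      · exact (K971.Basic.mul_le_left _ _).trans le_sup_left
      · exact (K971.Basic.mul_le_right _ _).trans le_sup_left
      · exact (K971.Basic.mul_le_left _ _).trans le_sup_left

theorem sup_prod_eq_top {ι : Type*} [DecidableEq ι] (s : Finset ι) (A : X.IdealSheafData) (N : ι → X.IdealSheafData)
    (h : ∀ i ∈ s, A ⊔ N i = ⊤) : A ⊔ ∏ i ∈ s, N i = ⊤ := by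
  induction s using Finset.induction_on with
  | empty => simp
  | insert i s hi ih =>
    rw [Finset.prod_insert hi]
    exact sup_mul_eq_top (h i (Finset.mem_insert_self i s)) (ih fun j hj => h j (Finset.mem_insert_of_mem hj))

theorem le_prod {ι : Type*} [DecidableEq ι] (s : Finset ι) (N : ι → X.IdealSheafData) {D : X.IdealSheafData}
    (hD : ∀ i ∈ s, D ≤ N i) (h : ∀ i j, i ≠ j → N i ⊔ N j = ⊤) : D ≤ ∏ i ∈ s, N i := by
  induction s using Finset.induction_on with
  | empty => simp
  | insert i s hi ih =>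
    rw [Finset.prod_insert hi]
    refine le_mul_of_sup_eq_top (hD i (Finset.mem_insert_self i s)) (ih fun j hj => hD j (Finset.mem_insert_of_mem hj)) ?_
    refine sup_prod_eq_top s _ _ fun j hj => h i j ?_
    rintro rfl
    exact hi hj

/-- Seven points with their lines and conics. -/
structure Conf (X : Scheme.{u}) where
  /-- the ideals of the points -/
  M : Fin 7 → X.IdealSheafData
  /-- the points that are blown up -/
  R : Fin 7 → Prop
  /-- the lines -/
  D : Fin 7 → Fin 7 → X.IdealSheafData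
  /-- the conics -/
  Q : Fin 7 → Fin 7 → X.IdealSheafData
  eff : ∀ i, R i → IsEffCartierIdeal (M i)
  cop : ∀ i j, i ≠ j → M i ⊔ M j = ⊤
  effD : ∀ i j, i ≠ j → IsEffCartierIdeal (D i j)
  effQ : ∀ i j, i ≠ j → IsEffCartierIdeal (Q i j)
  leD : ∀ i j, i ≠ j → D i j ≤ M i
  leD' : ∀ i j, i ≠ j → D i j ≤ M j
  leQ : ∀ i j l, i ≠ j → l ≠ i → l ≠ j → Q i j ≤ M l
  supD : ∀ i j l, i ≠ j → i ≠ l → j ≠ l → M i ≤ D i j ⊔ D i l
  supQ : ∀ i j l, i ≠ j → i ≠ l → j ≠ l → ∏ m ∈ ((Finset.univ.erase i).erase j).erase l, M m ≤ Q i j ⊔ Q i l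

namespace Conf

variable (K : Conf X)

open Classical in
/-- The Cartier part of `M i`. -/
noncomputable def N (i : Fin 7) : X.IdealSheafData := if K.R i then K.M i else ⊤

open Classical in
/-- The other part of `M i`. -/
noncomputable def V (i : Fin 7) : X.IdealSheafData := if K.R i then ⊤ else K.M i

theorem N_mul_V (i : Fin 7) : K.N i * K.V i = K.M i := by
  unfold N V
  split_ifs <;> simp

theorem isEff_N (i : Fin 7) : IsEffCartierIdeal (K.N i) := by
  unfold N
  split_ifs with h
  · exact K.eff i h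
  · exact Groth.Agent.Divis.EffCartier.isEff_top

theorem le_N (i : Fin 7) : K.M i ≤ K.N i := by
  rw [← K.N_mul_V i]
  exact K971.Basic.mul_le_left _ _

theorem le_V (i : Fin 7) : K.M i ≤ K.V i := by
  rw [← K.N_mul_V i]
  exact K971.Basic.mul_le_right _ _

theorem N_cop (i j : Fin 7) (h : i ≠ j) : K.N i ⊔ K.N j = ⊤ := by
  rw [eq_top_iff, ← K.cop i j h]
  exact sup_le_sup (K.le_N i) (K.le_N j)

/-- The residual of a line. -/
def IsL (i j : Fin 7) (L : X.IdealSheafData) : Prop := IsEffCartierIdeal L ∧ K.N i * K.N j * L = K.D i j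

/-- The residual of a conic. -/
def IsC (i j : Fin 7) (C : X.IdealSheafData) : Prop :=
  IsEffCartierIdeal C ∧ (∏ l ∈ (Finset.univ.erase i).erase j, K.N l) * C = K.Q i j

theorem exists_L (i j : Fin 7) (h : i ≠ j) : ∃ L, K.IsL i j L := by
  obtain ⟨L, hL, e⟩ := K971.Basic.exists_mul_eq
    (Groth.Agent.Divis.EffCartier.isEff_mul (K.isEff_N i) (K.isEff_N j)) (K.effD i j h)
    (le_mul_of_sup_eq_top ((K.leD i j h).trans (K.le_N i)) ((K.leD' i j h).trans (K.le_N j)) (K.N_cop i j h))
  exact ⟨L, hL, by rw [mul_comm]; exact e⟩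

theorem exists_C (i j : Fin 7) (h : i ≠ j) : ∃ C, K.IsC i j C := by
  obtain ⟨C, hC, e⟩ := K971.Basic.exists_mul_eq
    (K464.Base.isEff_prod ((Finset.univ.erase i).erase j) K.N K.isEff_N) (K.effQ i j h)
    (le_prod _ _ (fun l hl => by
      rw [Finset.mem_erase, Finset.mem_erase] at hl
      exact (K.leQ i j l h hl.2.1 hl.1).trans (K.le_N l)) K.N_cop)
  exact ⟨C, hC, by rw [mul_comm]; exact e⟩

variable {K} {x : X} (hx : ∀ i, x ∉ (K.V i).support)

include hx in
theorem disj_L {i j l : Fin 7} (hij : i ≠ j) (hil : i ≠ l) (hjl : j ≠ l) {L L' : X.IdealSheafData}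
    (hL : K.IsL i j L) (hL' : K.IsL i l L') (h : x ∈ L.support) (h' : x ∈ L'.support) : False := by
  have h1 := K.supD i j l hij hil hjl
  rw [← hL.2, ← hL'.2, ← K.N_mul_V i, mul_assoc, mul_assoc, ← Scheme.IdealSheafData.mul_inf] at h1
  have h2 := mul_le_mul_left_iff (K.isEff_N i) h1
  refine hx i (Scheme.IdealSheafData.support_antitone h2 ?_)
  rw [Scheme.IdealSheafData.support_sup, Scheme.IdealSheafData.support_mul, Scheme.IdealSheafData.support_mul]
  exact ⟨Or.inr h, Or.inr h'⟩

theorem erase_aux {i j l : Fin 7} (hil : i ≠ l) (hjl : j ≠ l) (N : Fin 7 → X.IdealSheafData) :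
    ∏ m ∈ (Finset.univ.erase i).erase j, N m = (∏ m ∈ ((Finset.univ.erase i).erase j).erase l, N m) * N l := by
  rw [Finset.prod_erase_mul]
  simp [hil.symm, hjl.symm]

include hx in
theorem disj_C {i j l : Fin 7} (hij : i ≠ j) (hil : i ≠ l) (hjl : j ≠ l) {C C' : X.IdealSheafData}
    (hC : K.IsC i j C) (hC' : K.IsC i l C') (h : x ∈ C.support) (h' : x ∈ C'.support) : False := by
  have h1 := K.supQ i j l hij hil hjl
  have e : ((Finset.univ.erase i).erase l : Finset (Fin 7)).erase j = ((Finset.univ.erase i).erase j).erase l :=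
    Finset.erase_right_comm
  have h2 : ∏ m ∈ ((Finset.univ.erase i).erase j).erase l, K.M m =
      (∏ m ∈ ((Finset.univ.erase i).erase j).erase l, K.N m) *
        ∏ m ∈ ((Finset.univ.erase i).erase j).erase l, K.V m := by
    rw [← Finset.prod_mul_distrib]
    exact Finset.prod_congr rfl fun m _ => (K.N_mul_V m).symm
  rw [← hC.2, ← hC'.2, erase_aux hil hjl K.N, erase_aux hij hjl.symm K.N, e, h2, mul_assoc, mul_assoc,
    ← Scheme.IdealSheafData.mul_inf] at h1
  have h3 := mul_le_mul_left_iff (K464.Base.isEff_prod _ K.N K.isEff_N) h1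
  have h4 : x ∈ (∏ m ∈ ((Finset.univ.erase i).erase j).erase l, K.V m).support := by
    refine Scheme.IdealSheafData.support_antitone h3 ?_
    rw [Scheme.IdealSheafData.support_sup, Scheme.IdealSheafData.support_mul, Scheme.IdealSheafData.support_mul]
    exact ⟨Or.inr h, Or.inr h'⟩
  have h5 : ∀ s : Finset (Fin 7), x ∉ (∏ m ∈ s, K.V m).support := by
    intro s
    induction s using Finset.induction_on with
    | empty =>
      rw [Finset.prod_empty, Scheme.IdealSheafData.one_eq_top, Scheme.IdealSheafData.support_top]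
      exact fun h => h
    | insert m s hm ih =>
      rw [Finset.prod_insert hm, Scheme.IdealSheafData.support_mul]
      rintro (h | h)
      · exact hx m h
      · exact ih h
  exact h5 _ h4

/-- The pair `i, j` is good at `x`. -/
def Good (K : Conf X) (x : X) (i j : Fin 7) : Prop :=
  ∃ L C, K.IsL i j L ∧ K.IsC i j C ∧ x ∉ L.support ∧ x ∉ C.support

include hx in
theorem card_bad (i : Fin 7) : ({j | j ≠ i ∧ ¬ K.Good x i j} : Set (Fin 7)).ncard ≤ 2 := by
  classical
  choose! L hL using K.exists_L i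
  choose! C hC using K.exists_C i
  have hsub : ({j | j ≠ i ∧ ¬ K.Good x i j} : Set (Fin 7)) ⊆
      {j | j ≠ i ∧ x ∈ (L j).support} ∪ {j | j ≠ i ∧ x ∈ (C j).support} := by
    rintro j ⟨hj, h⟩
    by_contra hcon
    simp only [Set.mem_union, Set.mem_ofPred_eq, not_or, not_and] at hcon
    exact h ⟨L j, C j, hL j hj.symm, hC j hj.symm, hcon.1 hj, hcon.2 hj⟩
  have h1 : ({j | j ≠ i ∧ x ∈ (L j).support} : Set (Fin 7)).Subsingleton := by
    rintro j ⟨hj, hj'⟩ l ⟨hl, hl'⟩
    by_contra hne
    exact disj_L hx hj.symm hl.symm hne (hL j hj.symm) (hL l hl.symm) hj' hl'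
  have h2 : ({j | j ≠ i ∧ x ∈ (C j).support} : Set (Fin 7)).Subsingleton := by
    rintro j ⟨hj, hj'⟩ l ⟨hl, hl'⟩
    by_contra hne
    exact disj_C hx hj.symm hl.symm hne (hC j hj.symm) (hC l hl.symm) hj' hl'
  have h3 := Set.ncard_le_one_iff_subsingleton.2 h1
  have h4 := Set.ncard_le_one_iff_subsingleton.2 h2
  refine (Set.ncard_le_ncard hsub (Set.toFinite _)).trans ((Set.ncard_union_le _ _).trans ?_)
  omega

include hx in
/-- For `i ≠ i'` there is `j` such that `i, j` and `i', j` are good at `x`. -/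
theorem exists_good (i i' : Fin 7) : ∃ j, j ≠ i ∧ j ≠ i' ∧ K.Good x i j ∧ K.Good x i' j := by
  by_contra hcon
  push Not at hcon
  have hsub : (Set.univ : Set (Fin 7)) ⊆ {i, i'} ∪ ({j | j ≠ i ∧ ¬ K.Good x i j} ∪ {j | j ≠ i' ∧ ¬ K.Good x i' j}) := by
    intro j _
    by_cases h1 : j = i
    · exact Or.inl (Or.inl h1)
    by_cases h2 : j = i'
    · exact Or.inl (Or.inr h2)
    by_cases h3 : K.Good x i j
    · exact Or.inr (Or.inr ⟨h2, hcon j h1 h2 h3⟩)
    · exact Or.inr (Or.inl ⟨h1, h3⟩)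
  have h1 := Set.ncard_le_ncard hsub (Set.toFinite _)
  have h2 := Set.ncard_union_le {i, i'} ({j | j ≠ i ∧ ¬ K.Good x i j} ∪ {j | j ≠ i' ∧ ¬ K.Good x i' j})
  have h3 := Set.ncard_union_le {j | j ≠ i ∧ ¬ K.Good x i j} {j | j ≠ i' ∧ ¬ K.Good x i' j}
  have h4 := card_bad hx i
  have h5 := card_bad hx i'
  have h6 : ({i, i'} : Set (Fin 7)).ncard ≤ 2 := (Set.ncard_insert_le i {i'}).trans (by rw [Set.ncard_singleton])
  rw [Set.ncard_univ, Nat.card_eq_fintype_card, Fintype.card_fin] at h1
  omega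

end Conf

end K230.Resid
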